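import Cfsg.Agent.FT.CF4
import Cfsg.Agent.FT.Basic
import Cfsg.Agent.FT.PP03a
import Cfsg.Agent.FT.PP03b
import Cfsg.Agent.FT.PP03c

/- LINKED interface; the statements, proved in the imported files:

variable {Γ : Type u} [Group Γ] [Finite Γ] {G W1 W2 : Subgroup Γ}
-- ### elementary consequences of the hypothesis 
theorem cycTIhyp_sym (h : CycTIHyp G W1 W2) : CycTIHyp G W2 W1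
theorem cycTIhyp_facts (h : CycTIHyp G W1 W2) : W1 ≠ ⊥ ∧ W2 ≠ ⊥ ∧ IsCyclic W1 ∧ IsCyclic W2 ∧ Odd #|W1| ∧ Odd #|W2| ∧ 2 < #|W1| ∧ 2 < #|W2| ∧ (#|W1|).Coprime #|W2| ∧ W1 ⊔ W2 ≤ G
theorem card_cycTIset (h : IsDp W1 W2 (W1 ⊔ W2)) : (cycTIset W1 W2).ncard = (#|W1| - 1) * (#|W2| - 1)
theorem cycTIiso_sym (G W1 W2 : Subgroup Γ) : cycTIiso G W1 W2 = cycTIiso G W2 W1
theorem eta_sym (h : IsDp W1 W2 (W1 ⊔ W2)) {i j : Γ → ℂ} (hi : IsIrr W1 i) (hj : IsIrr W2 j) : eta G W1 W2 i j = eta G W2 W1 j i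
-- 3.4 
theorem cfCycTI_on (h : CycTIHyp G W1 W2) {i j : Γ → ℂ} (hi : IsIrr W1 i) (hj : IsIrr W2 j) : IsCFOn (W1 ⊔ W2) (cycTIset W1 W2) (cf1 (W1 ⊔ W2) - cfDp W1 i (cf1 W2) - cfDp W1 (cf1 W1) j + cfDp W1 i j)
-- 3.4: the `α_{ij}` span `CF(W, V)` 
theorem cfCycTI_span (h : CycTIHyp G W1 W2) {φ : Γ → ℂ} (hφ : IsCFOn (W1 ⊔ W2) (cycTIset W1 W2) φ) : φ = ∑ i ∈ irr W1, ∑ j ∈ irr W2, ⟪φ, cfDp W1 i j⟫_(W1 ⊔ W2) • (cf1 (W1 ⊔ W2) - cfDp W1 i (cf1 W2) - cfDp W1 (cf1 W1) j + cfDp W1 i j)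
-- ### 3.2 
theorem cycTIiso_cf (h : CycTIHyp G W1 W2) (φ : Γ → ℂ) : IsCF G (cycTIiso G W1 W2 φ)
theorem cycTIisometry (h : CycTIHyp G W1 W2) {φ ψ : Γ → ℂ} (hφ : IsCF (W1 ⊔ W2) φ) (hψ : IsCF (W1 ⊔ W2) ψ) : ⟪cycTIiso G W1 W2 φ, cycTIiso G W1 W2 ψ⟫_G = ⟪φ, ψ⟫_(W1 ⊔ W2)
theorem cycTIiso_virt (h : CycTIHyp G W1 W2) {φ : Γ → ℂ} (hφ : φ ∈ virt (W1 ⊔ W2)) : cycTIiso G W1 W2 φ ∈ virt G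
theorem cycTIiso_irr_dirr (h : CycTIHyp G W1 W2) {ω : Γ → ℂ} (hω : IsIrr (W1 ⊔ W2) ω) : IsDirr G (cycTIiso G W1 W2 ω)
theorem cycTIiso_vchar (h : CycTIHyp G W1 W2) {i j : Γ → ℂ} (hi : IsIrr W1 i) (hj : IsIrr W2 j) : eta G W1 W2 i j ∈ virt G
theorem cycTIiso_dirr (h : CycTIHyp G W1 W2) {i j : Γ → ℂ} (hi : IsIrr W1 i) (hj : IsIrr W2 j) : IsDirr G (eta G W1 W2 i j)
theorem cfnorm_cycTIiso (h : CycTIHyp G W1 W2) {i j : Γ → ℂ} (hi : IsIrr W1 i) (hj : IsIrr W2 j) : ⟪eta G W1 W2 i j, eta G W1 W2 i j⟫_G = 1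
theorem cfdot_cycTIiso_ne (h : CycTIHyp G W1 W2) {i j k l : Γ → ℂ} (hi : IsIrr W1 i) (hj : IsIrr W2 j) (hk : IsIrr W1 k) (hl : IsIrr W2 l) (hne : i ≠ k ∨ j ≠ l) : ⟪eta G W1 W2 i j, eta G W1 W2 k l⟫_G = 0
theorem cfdot_cycTIiso (h : CycTIHyp G W1 W2) {i j k l : Γ → ℂ} (hi : IsIrr W1 i) (hj : IsIrr W2 j) (hk : IsIrr W1 k) (hl : IsIrr W2 l) : ⟪eta G W1 W2 i j, eta G W1 W2 k l⟫_G = if i = k ∧ j = l then 1 else 0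
-- 3.2 (a) 
theorem cycTIiso_Ind (h : CycTIHyp G W1 W2) {φ : Γ → ℂ} (hφ : IsCFOn (W1 ⊔ W2) (cycTIset W1 W2) φ) : cycTIiso G W1 W2 φ = ind G (W1 ⊔ W2) φ
-- 3.2 (b) 
theorem cycTIiso1 (h : CycTIHyp G W1 W2) : cycTIiso G W1 W2 (cf1 (W1 ⊔ W2)) = cf1 G
-- 3.2 (b) 
theorem eta00 (h : CycTIHyp G W1 W2) : eta G W1 W2 (cf1 W1) (cf1 W2) = cf1 G
-- 3.2 (c) 
theorem cycTIiso_restrict (h : CycTIHyp G W1 W2) {φ : Γ → ℂ} (hφ : IsCF (W1 ⊔ W2) φ) {x : Γ} (hx : x ∈ cycTIset W1 W2) : cycTIiso G W1 W2 φ x = φ x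
-- 3.2 (c) 
theorem eta_restrict (h : CycTIHyp G W1 W2) {i j : Γ → ℂ} (hi : IsIrr W1 i) (hj : IsIrr W2 j) {x : Γ} (hx : x ∈ cycTIset W1 W2) : eta G W1 W2 i j x = cfDp W1 i j x
-- 3.2 (d) 
theorem ortho_cycTIiso_vanish (h : CycTIHyp G W1 W2) {ψ : Γ → ℂ} (hψ : IsCF G ψ) (ho : ∀ i j, IsIrr W1 i → IsIrr W2 j → ⟪ψ, eta G W1 W2 i j⟫_G = 0) {x : Γ} (hx : x ∈ cycTIset W1 W2) : ψ x = 0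
-- the values on `V` of a class function of `G` 
theorem cycTIiso_expand (h : CycTIHyp G W1 W2) {ψ : Γ → ℂ} (hψ : IsCF G ψ) {x : Γ} (hx : x ∈ cycTIset W1 W2) : ψ x = ∑ i ∈ irr W1, ∑ j ∈ irr W2, ⟪ψ, eta G W1 W2 i j⟫_G * cfDp W1 i j x
-- 3.7 
theorem cycTIiso_cfdot_exchange (h : CycTIHyp G W1 W2) {ψ : Γ → ℂ} (hψ : IsCF G ψ) (h0 : ∀ x ∈ cycTIset W1 W2, ψ x = 0) {i j k l : Γ → ℂ} (hi : IsIrr W1 i) (hj : IsIrr W2 j) (hk : IsIrr W1 k) (hl : IsIrr W2 l) : ⟪ψ, eta G W1 W2 i j⟫_G + ⟪ψ, eta G W1 W2 k l⟫_G = ⟪ψ, eta G W1 W2 i l⟫_G + ⟪ψ, eta G W1 W2 k j⟫_G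
-- ### 3.6, 3.8 
theorem cycTI_NC_zero (G W1 W2 : Subgroup Γ) : cycTINC G W1 W2 0 = 0
theorem cycTI_NC_eq_zero {φ : Γ → ℂ} : cycTINC G W1 W2 φ = 0 ↔ ∀ i j, IsIrr W1 i → IsIrr W2 j → ⟪φ, eta G W1 W2 i j⟫_G = 0
theorem cycTI_NC_opp (φ : Γ → ℂ) : cycTINC G W1 W2 (-φ) = cycTINC G W1 W2 φ
theorem cycTI_NC_add (φ ψ : Γ → ℂ) : cycTINC G W1 W2 (φ + ψ) ≤ cycTINC G W1 W2 φ + cycTINC G W1 W2 ψ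
theorem cycTI_NC_sub (φ ψ : Γ → ℂ) : cycTINC G W1 W2 (φ - ψ) ≤ cycTINC G W1 W2 φ + cycTINC G W1 W2 ψ
theorem cycTI_NC_scale (c : ℂ) (φ : Γ → ℂ) : cycTINC G W1 W2 (c • φ) ≤ cycTINC G W1 W2 φ
theorem cycTI_NC_zscale (c : ℤ) (φ : Γ → ℂ) : cycTINC G W1 W2 (c • φ) ≤ cycTINC G W1 W2 φ
theorem cycTI_NC_dirr (h : CycTIHyp G W1 W2) {φ : Γ → ℂ} (hφ : IsDirr G φ) : cycTINC G W1 W2 φ ≤ 1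
theorem cycTI_NC_norm (h : CycTIHyp G W1 W2) {φ : Γ → ℂ} (hφ : φ ∈ virt G) : (cycTINC G W1 W2 φ : ℝ) ≤ cfnorm G φ
-- 3.8 
theorem small_cycTI_NC (h : CycTIHyp G W1 W2) {φ : Γ → ℂ} (hφ : IsCF G φ) (h0 : ∀ x ∈ cycTIset W1 W2, φ x = 0) (hlt : cycTINC G W1 W2 φ < 2 * min #|W1| #|W2|) {i0 j0 : Γ → ℂ} (hi : IsIrr W1 i0) (hj : IsIrr W2 j0) (hne : ⟪φ, eta G W1 W2 i0 j0⟫_G ≠ 0) : (∀ i j, IsIrr W1 i → IsIrr W2 j → (j = j0 → ⟪φ, eta G W1 W2 i j⟫_G = ⟪φ, eta G W1 W2 i0 j0⟫_G) ∧ (j ≠ j0 → ⟪φ, eta G W1 W2 i j⟫_G = 0)) ∨ ∀ i j, IsIrr W1 i → IsIrr W2 j → (i = i0 → ⟪φ, eta G W1 W2 i j⟫_G = ⟪φ, eta G W1 W2 i0 j0⟫_G) ∧ (i ≠ i0 → ⟪φ, eta G W1 W2 i j⟫_G = 0)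
-- 3.8, weak form 
theorem cycTI_NC_minn (h : CycTIHyp G W1 W2) {φ : Γ → ℂ} (hφ : IsCF G φ) (h0 : ∀ x ∈ cycTIset W1 W2, φ x = 0) (hlt : cycTINC G W1 W2 φ < min #|W1| #|W2|) : cycTINC G W1 W2 φ = 0
theorem eq_signed_sub_cTIiso (h : CycTIHyp G W1 W2) {φ i j k : Γ → ℂ} {e : ℤ} (he : e = 1 ∨ e = -1) (hφ : φ ∈ virt G) (h2 : ⟪φ, φ⟫_G = 2) (hi : IsIrr W1 i) (hj : IsIrr W2 j) (hk : IsIrr W2 k) (hne : j ≠ k) (hV : ∀ x ∈ cycTIset W1 W2, φ x = (e • (eta G W1 W2 i j - eta G W1 W2 i k)) x) : φ = e • (eta G W1 W2 i j - eta G W1 W2 i k)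
-- ### 3.9 
-- 3.9 (a) 
theorem eq_in_cycTIiso (h : CycTIHyp G W1 W2) {ω φ : Γ → ℂ} (hω : IsIrr (W1 ⊔ W2) ω) (hφ : IsDirr G φ) (hV : ∀ x ∈ cycTIset W1 W2, φ x = ω x) : φ = cycTIiso G W1 W2 ω
theorem cfAut_cycTIiso (h : CycTIHyp G W1 W2) (σ : ℂ →+* ℂ) {φ : Γ → ℂ} (hφ : IsCF (W1 ⊔ W2) φ) : cfAut σ (cycTIiso G W1 W2 φ) = cycTIiso G W1 W2 (cfAut σ φ)
theorem cfAut_eta (h : CycTIHyp G W1 W2) (σ : ℂ →+* ℂ) {i j : Γ → ℂ} (hi : IsIrr W1 i) (hj : IsIrr W2 j) : cfAut σ (eta G W1 W2 i j) = eta G W1 W2 (cfAut σ i) (cfAut σ j)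
theorem star_eta (h : CycTIHyp G W1 W2) {i j : Γ → ℂ} (hi : IsIrr W1 i) (hj : IsIrr W2 j) : star (eta G W1 W2 i j) = eta G W1 W2 (star i) (star j)
-- 3.9 (b) 
theorem cycTIiso_aut_exists (h : CycTIHyp G W1 W2) {ω : Γ → ℂ} (hω : IsIrr (W1 ⊔ W2) ω) {a k : ℕ} (ha : a ≠ 0) (hωa : ω ^ a = cf1 (W1 ⊔ W2)) (hk0 : k ≠ 0) (hk : k.Coprime a) : ∃ σ : ℂ →+* ℂ, cfAut σ ω = ω ^ k ∧ cycTIiso G W1 W2 (ω ^ k) = cfAut σ (cycTIiso G W1 W2 ω) ∧ ∀ x : Γ, (orderOf x).Coprime a → cycTIiso G W1 W2 (ω ^ k) x = cycTIiso G W1 W2 ω x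
-- 3.9 (c) 
theorem Cint_cycTIiso_coprime (h : CycTIHyp G W1 W2) {ω : Γ → ℂ} (hω : IsIrr (W1 ⊔ W2) ω) {a : ℕ} (ha : a ≠ 0) (hωa : ω ^ a = cf1 (W1 ⊔ W2)) {x : Γ} (hx : (orderOf x).Coprime a) : ∃ n : ℤ, cycTIiso G W1 W2 ω x = n
-/
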