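import Cfsg.Agent.FT.D01
import Cfsg.Agent.FT.Quo
import Cfsg.Agent.H8.PxQ
import Cfsg.Agent.H8.Rank
import Cfsg.Agent.FT.P01a
import Cfsg.Agent.FT.P01b
import Cfsg.Agent.FT.P01c

/- LINKED interface; the statements, proved in the imported files:

variable {G : Type u} [Group G] [Finite G]
-- 1.1 
theorem minnormal_solvable_abelem {M H : Subgroup G} (h : MinNormal M H) (hs : Group.IsSolvable M) : ∃ p : ℕ, p.Prime ∧ IsElementaryAbelian p M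
-- 1.1 
theorem minnormal_solvable_Fitting_center {M H : Subgroup G} (h : MinNormal M H) (hMH : M ≤ H) (hs : Group.IsSolvable M) : M ≤ Zen (Fit H)
-- a nontrivial `H`-invariant subgroup contains a minimal one 
theorem minnormal_exists {N H : Subgroup G} (hN : N ≠ ⊥) (hH : H ≤ 𝐍(N)) : ∃ M, M ≤ N ∧ MinNormal M H
-- a nontrivial `H`-invariant solvable subgroup contains an `H`-invariant elementary abelian subgroup 
theorem solvable_norm_abelem {N H : Subgroup G} (hs : Group.IsSolvable N) (hN : N ≠ ⊥) (hH : H ≤ 𝐍(N)) : ∃ (p : ℕ) (M : Subgroup G), p.Prime ∧ M ≤ N ∧ M ≠ ⊥ ∧ H ≤ 𝐍(M) ∧ N ≤ 𝐍(M) ∧ IsElementaryAbelian p M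
-- 1.1 for chief factors 
theorem sol_chief_abelem {H V U : Subgroup G} (hs : Group.IsSolvable H) (h : ChiefFactor H V U) : V ⊴ U ∧ MinNormal (U ⁒ V) (H ⁒ V) ∧ ∃ p : ℕ, p.Prime ∧ IsElementaryAbelian p (U ⁒ V)
-- chief factors above a given normal subgroup 
theorem chief_factor_exists_ge {H V U : Subgroup G} (hVU : V < U) (hU : U ⊴ H) (hV : H ≤ 𝐍(V)) : ∃ W, W ≤ U ∧ ChiefFactor H V W
-- chief factors below a given normal subgroup 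
theorem chief_factor_exists_le {H V U : Subgroup G} (hVU : V < U) (hU : U ⊴ H) (hV : H ≤ 𝐍(V)) : ∃ W, V ≤ W ∧ ChiefFactor H W U
-- 1.2, first half 
theorem Fitting_stab_chief {H K V U : Subgroup G} (hK : K ⊴ H) (h : ChiefFactor H V U) : ⁅U, Fit K⁆ ≤ V
-- 1.2, second half 
theorem chief_stab_sub_Fitting {H K : Subgroup G} (hs : Group.IsSolvable H) (hK : K ⊴ H) (h : ∀ V U, ChiefFactor H V U → U ≤ Fit H → ⁅U, K⁆ ≤ V) : K ≤ Fit H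
-- a `p'`-subgroup centralizing all chief factors of `H` inside the normal `p`-subgroup `R` centralizes `R` 
theorem cent_of_stab_chief {p : ℕ} [Fact p.Prime] {H R A : Subgroup G} (hR : IsPGroup p R) (hRH : R ⊴ H) (hA : ¬ p ∣ #|A|) (hAH : A ≤ H) (h : ∀ V U, ChiefFactor H V U → U ≤ R → ⁅U, A⁆ ≤ V) : A ≤ 𝐂(R)
-- 1.3 
theorem cent_sub_Fitting {H : Subgroup G} (hs : Group.IsSolvable H) : H ⊓ 𝐂(Fit H) ≤ Fit H
-- 1.4 
theorem coprime_cent_Fitting {A H : Subgroup G} (h : CopAct A H) (hs : Group.IsSolvable H) (hc : A ≤ 𝐂(Fit H)) : A ≤ 𝐂(H)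
-- 1.5 (e) 
theorem coprime_comm_pcore {ρ : Set ℕ} {A H K : Subgroup G} (h : CopAct A H) (hs : Group.IsSolvable H) (hK : IsHallIn ρᶜ K H) (hc : K ≤ 𝐂(A)) : ⁅H, A⁆ ≤ Opi ρ H
-- 1.6 (d) 
theorem coprime_abelian_cent_dprod {A K : Subgroup G} (h : CopAct A K) (hK : IsMulCommutative K) : IsDp ⁅K, A⁆ (K ⊓ 𝐂(A)) K
-- 1.6 (e) 
theorem coprime_abelian_faithful_Ohm1 {p : ℕ} [Fact p.Prime] {A K : Subgroup G} (h : CopAct A K) (hK : IsMulCommutative K) (hp : IsPGroup p K) (hc : A ≤ 𝐂(omegaOne p K)) : A ≤ 𝐂(K)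
-- 1.11 
theorem coprime_odd_faithful_Ohm1 {p : ℕ} [Fact p.Prime] {A K : Subgroup G} (h : CopAct A K) (hp : IsPGroup p K) (ho : Odd #|K|) (hc : A ≤ 𝐂(omegaOne p K)) : A ≤ 𝐂(K)
-- 1.12 
theorem coprime_odd_faithful_cent_abelem {p : ℕ} [Fact p.Prime] {A K E : Subgroup G} (h : CopAct A K) (hp : IsPGroup p K) (ho : Odd #|K|) (hE : E ≤ K) (hE' : IsElementaryAbelian p E) (hc : ∀ x ∈ K ⊓ 𝐂(E), x ^ p = 1 → x ∈ 𝐂(A)) : A ≤ 𝐂(K)
-- 1.15 (a) 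
theorem solvable_p_constrained {p : ℕ} [Fact p.Prime] {H T : Subgroup G} (hs : Group.IsSolvable H) (hT : IsSylowIn p T (Oppp p H)) : H ⊓ 𝐂(T) ≤ Oppp p H
-- 1.15 (a), core-free form 
theorem cent_pcore_sub_pcore {p : ℕ} [Fact p.Prime] {H : Subgroup G} (hs : Group.IsSolvable H) (h : Opp p H = ⊥) : H ⊓ 𝐂(Op p H) ≤ Op p H
-- 1.15 (b) 
theorem p'core_cent_pgroup {p : ℕ} [Fact p.Prime] {H R : Subgroup G} (hs : Group.IsSolvable H) (hR : IsPGroup p R) (hRH : R ≤ H) : Opp p (H ⊓ 𝐂(R)) ≤ Opp p H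
-- 1.15 (b) for normalizers 
theorem p'core_norm_pgroup {p : ℕ} [Fact p.Prime] {H R : Subgroup G} (hs : Group.IsSolvable H) (hR : IsPGroup p R) (hRH : R ≤ H) : Opp p (H ⊓ 𝐍(R)) ≤ Opp p H
-- 1.17 
theorem focal_subgroup_gen {p : ℕ} [Fact p.Prime] {H S : Subgroup G} (hS : IsSylowIn p S H) : S ⊓ der H = closure {y | ∃ x ∈ S, ∃ g ∈ H, g * x * g⁻¹ ∈ S ∧ y = x⁻¹ * (g * x * g⁻¹)}
-- 1.17, for a subgroup controlling fusion 
theorem focal_eq_of_controls_fusion {p : ℕ} [Fact p.Prime] {H L S : Subgroup G} (hS : IsSylowIn p S H) (hSL : S ≤ L) (hL : L ≤ H) (h : ∀ x ∈ S, ∀ g ∈ H, g * x * g⁻¹ ∈ S → ∃ n ∈ L, n * x * n⁻¹ = g * x * g⁻¹) : S ⊓ der H = S ⊓ der L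
-- the focal subgroup for an abelian Sylow subgroup 
theorem focal_abelian_Sylow {p : ℕ} [Fact p.Prime] {H S : Subgroup G} (hS : IsSylowIn p S H) (hab : IsMulCommutative S) : S ⊓ der H = ⁅S, H ⊓ 𝐍(S)⁆
-- 1.18 
theorem Burnside_normal_complement {p : ℕ} [Fact p.Prime] {H S : Subgroup G} (hS : IsSylowIn p S H) (h : H ⊓ 𝐍(S) ≤ 𝐂(S)) : IsSdp (Opp p H) S H
-- 1.19 (a) 
theorem cyclic_Sylow_tiVsub_der1 {p : ℕ} [Fact p.Prime] {H S : Subgroup G} (hS : IsSylowIn p S H) (hc : IsCyclic S) : S ⊓ der H = ⊥ ∨ S ≤ der H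
-- 1.19 (b) 
theorem Zgroup_der1_Hall {H : Subgroup G} (h : IsZGroup H) : IsHall (der H) H
-- 1.19 (c) 
theorem cyclic_pdiv_normal_complement {p : ℕ} [Fact p.Prime] {H S : Subgroup G} (hS : IsSylowIn p S H) (hc : IsCyclic S) (hmin : ∀ q : ℕ, q.Prime → q ∣ #|H| → p ≤ q) : IsSdp (Opp p H) S H
-- 1.19 (e) 
theorem Zgroup_metacyclic {H : Subgroup G} (h : IsZGroup H) : IsCyclic (der H) ∧ IsCyclic (H ⁒ der H)
-- `IsZGroup` in terms of subgroups of the ambient group 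
theorem Zgroup_iff {H : Subgroup G} : IsZGroup H ↔ ∀ (p : ℕ) (P : Subgroup G), p.Prime → P ≤ H → IsPGroup p P → IsCyclic P
theorem nil_Zgroup_cyclic {H : Subgroup G} (h : IsZGroup H) (hn : Group.IsNilpotent H) : IsCyclic H
-- 1.20 
theorem Maschke_abelem {p : ℕ} [Fact p.Prime] {A V U : Subgroup G} (hV : IsElementaryAbelian p V) (hA : ¬ p ∣ #|A|) (hU : U ≤ V) (hAV : A ≤ 𝐍(V)) (hAU : A ≤ 𝐍(U)) : ∃ W, IsDp U W V ∧ A ≤ 𝐍(W)
-- ### 1.21 : `p`-length one 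
theorem plength1_p'group {p : ℕ} [Fact p.Prime] {H : Subgroup G} (h : ¬ p ∣ #|H|) : PLength1 p H
theorem plength1_pgroup {p : ℕ} [Fact p.Prime] {H : Subgroup G} (h : IsPGroup p H) : PLength1 p H
theorem plength1_iff_Sylow {p : ℕ} [Fact p.Prime] {H S : Subgroup G} (hS : IsSylowIn p S H) : PLength1 p H ↔ Opp p H ⊔ S ⊴ H
theorem plength1_iff_quo {p : ℕ} [Fact p.Prime] {H : Subgroup G} : PLength1 p H ↔ IsSylowIn p (Op p (H ⁒ Opp p H)) (H ⁒ Opp p H)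
theorem plength1_of_normal_Sylow {p : ℕ} [Fact p.Prime] {H S : Subgroup G} (hS : IsSylowIn p S H) (hn : H ≤ 𝐍(S)) : PLength1 p H
theorem plength1S {p : ℕ} [Fact p.Prime] {H K : Subgroup G} (hKH : K ≤ H) (h : PLength1 p H) : PLength1 p K
theorem plength1_quo {p : ℕ} [Fact p.Prime] {H N : Subgroup G} (hN : H ≤ 𝐍(N)) (h : PLength1 p H) : PLength1 p (H ⁒ N)
theorem p'quo_plength1 {p : ℕ} [Fact p.Prime] {H N : Subgroup G} (hN : N ⊴ H) (hp : ¬ p ∣ #|N|) : PLength1 p (H ⁒ N) ↔ PLength1 p H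
theorem pquo_plength1 {p : ℕ} [Fact p.Prime] {H N : Subgroup G} (hN : N ⊴ H) (hp : IsPGroup p N) (h : Opp p (H ⁒ N) = ⊥) : PLength1 p (H ⁒ N) ↔ PLength1 p H
-- a normal subgroup of index prime to `p` 
theorem plength1_of_normal_p'index {p : ℕ} [Fact p.Prime] {H N : Subgroup G} (hN : N ⊴ H) (hp : ¬ p ∣ N.relIndex H) (h : PLength1 p N) : PLength1 p H
theorem p_elt_gen_normal (p : ℕ) (H : Subgroup G) : pEltGen p H ⊴ H
theorem norm_p_elt_gen (p : ℕ) (H : Subgroup G) : 𝐍(H) ≤ 𝐍(pEltGen p H)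
theorem sub_p_elt_gen {p : ℕ} {H P : Subgroup G} (hP : IsPGroup p P) (hPH : P ≤ H) : P ≤ pEltGen p H
theorem p'index_p_elt_gen {p : ℕ} [Fact p.Prime] (H : Subgroup G) : ¬ p ∣ (pEltGen p H).relIndex H
theorem p_elt_gen_min {p : ℕ} [Fact p.Prime] {H N : Subgroup G} (hN : N ⊴ H) (hp : ¬ p ∣ N.relIndex H) : pEltGen p H ≤ N
theorem p_elt_gen_length1 {p : ℕ} [Fact p.Prime] {H : Subgroup G} : PLength1 p H ↔ IsHallIn {p}ᶜ (Opp p (pEltGen p H)) (pEltGen p H)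
theorem quo2_plength1 {p : ℕ} [Fact p.Prime] {M H K : Subgroup G} (hH : H ⊴ M) (hK : K ⊴ M) (h : H ⊓ K = ⊥) : PLength1 p (M ⁒ H) ∧ PLength1 p (M ⁒ K) ↔ PLength1 p M
-- ### 1.22 and automorphisms of small groups 
theorem normal_pgroup {p : ℕ} [Fact p.Prime] {P N : Subgroup G} (hP : IsPGroup p P) (hN : N ⊴ P) {r : ℕ} (hr : p ^ r ≤ #|N|) : ∃ Q, Q ≤ N ∧ Q ⊴ P ∧ #|Q| = p ^ r
theorem p_maximal_normal {p : ℕ} [Fact p.Prime] {P M : Subgroup G} (hP : IsPGroup p P) (hM : M ≤ P) (hi : M.relIndex P = p) : M ⊴ P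
theorem p2group_abelian {p : ℕ} [Fact p.Prime] {P : Subgroup G} (hP : IsPGroup p P) (h : #|P| ≤ p ^ 2) : IsMulCommutative P
theorem der1_cent_cyclic {C H : Subgroup G} (hC : IsCyclic C) (hH : H ≤ 𝐍(C)) : der H ≤ 𝐂(C)
theorem index_cent_prime_dvd {p : ℕ} [Fact p.Prime] {P A : Subgroup G} (hP : #|P| = p) (hA : A ≤ 𝐍(P)) : (𝐂(P)).relIndex A ∣ p - 1 ∧ IsCyclic (A ⁒ 𝐂(P))
theorem index_cent_cyclic_pgroup_dvd {p : ℕ} [Fact p.Prime] {P A : Subgroup G} (hP : IsPGroup p P) (hc : IsCyclic P) (hA : A ≤ 𝐍(P)) (hp : ¬ p ∣ #|A|) : (𝐂(P)).relIndex A ∣ p - 1 ∧ IsCyclic (A ⁒ 𝐂(P))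
theorem p'group_quotient_cent_prime {p : ℕ} [Fact p.Prime] {P : Subgroup G} (hP : #|P| ∣ p) : ¬ p ∣ (𝐂(P)).relIndex 𝐍(P)
theorem pgroup_norm_prime_cent {p : ℕ} [Fact p.Prime] {P A : Subgroup G} (hP : #|P| ∣ p) (hA : IsPGroup p A) (hAP : A ≤ 𝐍(P)) : A ≤ 𝐂(P)
theorem logn_quotient_cent_abelem {p : ℕ} [Fact p.Prime] {A E : Subgroup G} (hA : A ≤ 𝐍(E)) (hE : IsElementaryAbelian p E) (h2 : #|E| ≤ p ^ 2) : ¬ p ^ 2 ∣ (𝐂(E)).relIndex A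
theorem index_cent_p2Elem_dvd {p : ℕ} [Fact p.Prime] {A E : Subgroup G} (hA : A ≤ 𝐍(E)) (hE : IsElementaryAbelian p E) (h2 : #|E| = p ^ 2) : (𝐂(E)).relIndex A ∣ (p ^ 2 - 1) * (p ^ 2 - p)
theorem cyclic_center_factor_abelian {H Z : Subgroup G} (hZ : Z ≤ Zen H) (h : IsCyclic (H ⁒ Z)) : IsMulCommutative H
theorem cyclic_nilpotent_quo_der1_cyclic {H : Subgroup G} (hn : Group.IsNilpotent H) (h : IsCyclic (H ⁒ der H)) : IsCyclic H
-- the number of subgroups of order `p` of an elementary abelian group of order `p ^ 2` 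
theorem card_p1Elem_p2Elem {p : ℕ} [Fact p.Prime] {H E : Subgroup G} (hE : PElem p 2 H E) : {X | PElem p 1 E X}.ncard = p + 1
theorem p2Elem_dprodP {p : ℕ} [Fact p.Prime] {H E X Y : Subgroup G} (hE : PElem p 2 H E) (hX : PElem p 1 E X) (hY : PElem p 1 E Y) (hne : X ≠ Y) : IsDp X Y E
-- a `p`-group acting nontrivially on an elementary abelian group of order `p ^ 2` 
theorem p2Elem_norm_trans {p : ℕ} [Fact p.Prime] {H A P : Subgroup G} (hA : PElem p 2 H A) (hP : IsPGroup p P) (hn : P ≤ 𝐍(A)) (hc : ¬ P ≤ 𝐂(A)) : PElem p 1 A (A ⊓ 𝐂(P)) ∧ ∀ X Y, PElem p 1 A X → PElem p 1 A Y → X ≠ A ⊓ 𝐂(P) → Y ≠ A ⊓ 𝐂(P) → ∃ g ∈ P, cj g X = Y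
-- a group acting semiregularly 
theorem semiregular_norm_dvd_pred {K H : Subgroup G} (hH : H ≤ 𝐍(K)) (h : Semiregular K H) : #|H| ∣ #|K| - 1
theorem semiregular_norm_coprime {K H : Subgroup G} (hH : H ≤ 𝐍(K)) (h : Semiregular K H) : (#|K|).Coprime #|H|
-- fixed points of a `q`-group on a group it normalizes 
theorem card_modEq_card_cent {q : ℕ} [Fact q.Prime] {A K : Subgroup G} (hA : IsPGroup q A) (hAK : A ≤ 𝐍(K)) : #|K| ≡ #|K ⊓ 𝐂(A)| [MOD q]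
-/
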