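import Cfsg.Agent.FT.Defs
import Cfsg.Prelude.Def_Transfer
import Cfsg.Agent.FT.P02a
import Cfsg.Agent.FT.P02b
import Cfsg.Agent.FT.P02c

/- LINKED interface; the statements, proved in the imported files:

variable {G : Type u} [Group G] [Finite G]
-- B & G, Theorem 2.5, first part. 
theorem repr_extraspecial_prime_sdprod_cycle {p n : ℕ} [Fact p.Prime] {P H : Subgroup G}
    (hP : IsExtraspecial p P) (hcard : #|P| = p ^ (2 * n + 1)) (hH : IsCyclic H) (hHP : H ≤ 𝐍(P))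
    (hco : ¬ p ∣ #|H|) (hC : ∀ x ∈ H, x ≠ 1 → P ⊓ 𝐂[x] = Zen P) :
    #|H| ∣ p ^ n + 1 ∨ #|H| ∣ p ^ n - 1
-- B & G, Theorem 2.5, second part (internal action on an elementary abelian `k`-group). 
theorem repr_extraspecial_prime_sdprod_cycle_fix {p n k : ℕ} [Fact p.Prime] [Fact k.Prime]
    {P H V : Subgroup G}
    (hP : IsExtraspecial p P) (hcard : #|P| = p ^ (2 * n + 1)) (hH : IsCyclic H) (hHP : H ≤ 𝐍(P))
    (hco : ¬ p ∣ #|H|) (hC : ∀ x ∈ H, x ≠ 1 → P ⊓ 𝐂[x] = Zen P) (hne : #|H| ≠ p ^ n + 1)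
    (hV : IsElementaryAbelian k V) (hPV : P ≤ 𝐍(V)) (hHV : H ≤ 𝐍(V)) (hkp : k ≠ p)
    (hkH : ¬ k ∣ #|H|) (hZ : ¬ Zen P ≤ 𝐂(V)) : V ⊓ 𝐂(H) ≠ ⊥
-- B & G, Theorem 2.6(b) (internal action, solvable case): the derived group of a solvable group of
odd order acts on an elementary abelian group of order at most `p ^ 2` as a group of exponent `p`. 
theorem der1_odd_GL2_charf {p : ℕ} [Fact p.Prime] {A E : Subgroup G}
    (hE : IsElementaryAbelian p E) (hcard : #|E| ≤ p ^ 2) (hAE : A ≤ 𝐍(E))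
    (hsol : Group.IsSolvable A) (hodd : Odd #|A|) : ∀ g ∈ der A, g ^ p ∈ 𝐂(E)
-- B & G, Theorem 2.6(a) (internal action, solvable case). 
theorem charf'_GL2_abelian {p : ℕ} [Fact p.Prime] {A E : Subgroup G}
    (hE : IsElementaryAbelian p E) (hcard : #|E| ≤ p ^ 2) (hAE : A ≤ 𝐍(E))
    (hsol : Group.IsSolvable A) (hodd : Odd #|A|) (hp : ¬ p ∣ #|A|) : der A ≤ 𝐂(E)
-- B & G, Lemma 2.7. 
theorem regular_abelem2_on_abelem2 {p q : ℕ} [Fact p.Prime] [Fact q.Prime] {P Q : Subgroup G}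
    (hP : IsElementaryAbelian p P) (hQ : IsElementaryAbelian q Q)
    (hPc : #|P| = p ^ 2) (hQc : #|Q| = q ^ 2) (hQP : Q ≤ 𝐍(P)) (hC : Q ⊓ 𝐂(P) = ⊥) :
    q ∣ p - 1 ∧ ∃ a ∈ Q, a ≠ 1 ∧ ∃ r : ℕ, (∀ x ∈ P, a * x * a⁻¹ = x ^ r) ∧
      r ^ q ≡ 1 [MOD p] ∧ ¬ r ≡ 1 [MOD p]
-/
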