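import Cfsg.Agent.FT.Defs
import Cfsg.Prelude.Def_Transfer
import Cfsg.Agent.FT.P02a
import Cfsg.Agent.FT.P02b
import Cfsg.Agent.FT.P02c

/- LINKED interface; the statements, proved in the imported files:

variable {G : Type u} [Group G] [Finite G]
-- ambient description of extraspecial groups 
theorem extraspecial_iff {p : ℕ} [Fact p.Prime] {P : Subgroup G} :
    IsExtraspecial p P ↔ IsPGroup p P ∧ der P = Zen P ∧ #|Zen P| = p
-- the order of an extraspecial group 
theorem card_extraspecial {p : ℕ} [Fact p.Prime] {P : Subgroup G} (hP : IsExtraspecial p P) :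
    ∃ n, 0 < n ∧ #|P| = p ^ (2 * n + 1)
-/
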