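import Cfsg.Agent.FT.Defs
import Mathlib.GroupTheory.SpecificGroups.ZGroup
import Cfsg.Agent.FT.P03a
import Cfsg.Agent.FT.P03b
import Cfsg.Agent.FT.P03c

/- LINKED interface; the statements, proved in the imported files:

variable {G : Type u} [Group G] [Finite G]
-- B & G, Lemma 3.2(b), special case. 
theorem Frobenius_proper_quotient {K R L H : Subgroup G} (hF : IsFrob K R L) (hH : H ⊴ L)
    (hlt : H < K) : IsFrob (K ⁒ H) (R ⁒ H) (L ⁒ H)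
-- B & G, Lemma 3.2(a). 
theorem Frobenius_normal_proper_ker {K R L H : Subgroup G} (hF : IsFrob K R L) (hH : H ⊴ L)
    (hK : ¬ K ≤ H) : H < K
-- B & G, Lemma 3.2(b). 
theorem Frobenius_quotient {K R L H : Subgroup G} (hF : IsFrob K R L) (hH : H ⊴ L)
    (hK : ¬ K ≤ H) : IsFrob (K ⁒ H) (R ⁒ H) (L ⁒ H)
-- B & G, Lemma 3.3 (internal action on an abelian group `V` of order prime to `|K|`). 
theorem Frobenius_rfix_compl {K R L V : Subgroup G} (hF : IsFrob K R L)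
    (hV : IsMulCommutative V) (hLV : L ≤ 𝐍(V)) (hco : (#|V|).Coprime #|K|) (hK : ¬ K ≤ 𝐂(V)) :
    V ⊓ 𝐂(R) ≠ ⊥
-- Aschbacher (40.6)(3). 
theorem regular_pq_group_cyclic {p q : ℕ} {H R : Subgroup G} (hp : p.Prime) (hq : q.Prime)
    (hpq : p ≠ q) (hR : #|R| = p * q) (hH : H ≠ ⊥) (hRH : R ≤ 𝐍(H)) (hreg : Semiregular H R) :
    IsCyclic R
-- B & G, Theorem 3.4 (internal action). 
theorem odd_prime_sdprod_abelem_cent1 {k : ℕ} [Fact k.Prime] {K R L V : Subgroup G}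
    (hsol : Group.IsSolvable L) (hodd : Odd #|L|) (hL : IsSdp K R L) (hco : (#|K|).Coprime #|R|)
    (hR : (#|R|).Prime) (hV : IsElementaryAbelian k V) (hLV : L ≤ 𝐍(V)) (hk : ¬ k ∣ #|L|)
    (hC : V ⊓ 𝐂(R) = ⊥) : ⁅R, K⁆ ≤ K ⊓ 𝐂(V)
-- B & G, Theorem 3.5 (internal action). 
theorem Frobenius_prime_cent_prime {k : ℕ} [Fact k.Prime] {K R L V : Subgroup G}
    (hsol : Group.IsSolvable L) (hL : IsSdp K R L) (hR : (#|R|).Prime) (hCK : K ⊓ 𝐂(R) = ⊥)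
    (hV : IsElementaryAbelian k V) (hLV : L ≤ 𝐍(V)) (hk : ¬ k ∣ #|L|)
    (hC : #|V ⊓ 𝐂(R)| = k) : der K ≤ K ⊓ 𝐂(V)
-- B & G, Theorem 3.6. 
theorem odd_sdprod_Zgroup_cent_prime_plength1 {p : ℕ} [Fact p.Prime] {H R R0 L : Subgroup G}
    (hsol : Group.IsSolvable L) (hodd : Odd #|L|) (hL : IsSdp H R L) (hco : (#|H|).Coprime #|R|)
    (hR0 : R0 ≤ R) (hpr : (#|R0|).Prime) (hZ : IsZGroup ↥(H ⊓ 𝐂(R0))) : PLength1 p ⁅H, R⁆
-- B & G, Theorem 3.7. 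
theorem prime_Frobenius_sol_kernel_nil {K R L : Subgroup G} (hL : IsSdp K R L)
    (hsol : Group.IsSolvable L) (hR : (#|R|).Prime) (hC : K ⊓ 𝐂(R) = ⊥) :
    Group.IsNilpotent K
-- Corollary of B & G, Theorem 3.7. 
theorem Frobenius_sol_kernel_nil {K R L : Subgroup G} (hF : IsFrob K R L)
    (hsol : Group.IsSolvable L) : Group.IsNilpotent K
-- B & G, Theorem 3.8. 
theorem odd_sdprod_primact_commg_sub_Fitting {K R L : Subgroup G} (hL : IsSdp K R L)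
    (hodd : Odd #|L|) (hsol : Group.IsSolvable L) (hco : (#|K|).Coprime #|R|)
    (hpr : Semiprime K R) (hC : Fit K ⊓ 𝐂(R) = ⊥) : ⁅K, R⁆ ≤ Fit K
-- B & G, Proposition 3.9 (internal action). 
theorem odd_regular_pgroup_cyclic {p : ℕ} [Fact p.Prime] {H R : Subgroup G} (hR : IsPGroup p R)
    (hodd : Odd #|R|) (hH : H ≠ ⊥) (hRH : R ≤ 𝐍(H)) (hreg : Semiregular H R) : IsCyclic R
-- An odd group acting semiregularly on a nontrivial group has cyclic Sylow subgroups. 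
theorem odd_regular_Zgroup {H R : Subgroup G} (hH : H ≠ ⊥) (hodd : Odd #|R|) (hRH : R ≤ 𝐍(H))
    (hreg : Semiregular H R) : IsZGroup R
-- Aschbacher (40.6)(4). 
theorem odd_regular_metacyclic {H R : Subgroup G} (hH : H ≠ ⊥) (hodd : Odd #|R|)
    (hRH : R ≤ 𝐍(H)) (hreg : Semiregular H R) : Metacyclic R
-- Subgroups of prime order of an odd group acting semiregularly are normal. 
theorem prime_odd_regular_normal {H R P : Subgroup G} (hP : (#|P|).Prime) (hodd : Odd #|R|)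
    (hPR : P ≤ R) (hH : H ≠ ⊥) (hRH : R ≤ 𝐍(H)) (hreg : Semiregular H R) : P ⊴ R
-- Peterfalvi (9.1), a special case of the Wielandt fixpoint formula. 
theorem Frobenius_Wielandt_fixpoint {K R L M : Subgroup G} (hF : IsFrob K R L)
    (hsolK : Group.IsSolvable K) (hLM : L ≤ 𝐍(M)) (hco : (#|M|).Coprime #|L|)
    (hsol : Group.IsSolvable M) :
    #|M ⊓ 𝐂(L)| ^ #|R| * #|M| = #|M ⊓ 𝐂(R)| ^ #|R| * #|M ⊓ 𝐂(K)| ∧
    (M ⊓ 𝐂(R) = ⊥ → K ≤ 𝐂(M)) ∧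
    (M ⊓ 𝐂(K) = ⊥ → #|M| = #|M ⊓ 𝐂(R)| ^ #|R|)
-- B & G, Theorem 3.10 (main part). 
theorem Frobenius_primact {K R L M : Subgroup G} (hF : IsFrob K R L) (hsolL : Group.IsSolvable L)
    (hLM : L ≤ 𝐍(M)) (hsol : Group.IsSolvable M) (hM : M ≠ ⊥) (hco : (#|M|).Coprime #|L|)
    (hpr : Semiprime M R) (hC : M ⊓ 𝐂(K) = ⊥) :
    (#|R|).Prime ∧ #|M| = #|M ⊓ 𝐂(R)| ^ #|R| ∧
      (IsCyclic ↥(M ⊓ 𝐂(R)) → der K ≤ K ⊓ 𝐂(M))
-/
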