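import Cfsg.Agent.FT.I05
import Cfsg.Agent.FT.P06a

/- LINKED interface; the statements, proved in the imported files:

variable {G : Type u} [Group G] [Finite G]
-- 6.1 
theorem odd_p_abelian_constrained {p : ℕ} [Fact p.Prime] {H P A : Subgroup G} (ho : Odd #|H|) (hs : Group.IsSolvable H) (hP : IsSylowIn p P H) (hab : IsMulCommutative A) (hA : A ⊴ P) : A ≤ Oppp p H
theorem ZJ_sub (S : Subgroup G) : ZJ S ≤ S
theorem ZJ_abelian (S : Subgroup G) : IsMulCommutative (ZJ S)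
theorem norm_ZJ (S : Subgroup G) : 𝐍(S) ≤ 𝐍(ZJ S)
theorem center_sub_ZJ (S : Subgroup G) : Zen S ≤ ZJ S
theorem ZJ_ne_bot {p : ℕ} [Fact p.Prime] {S : Subgroup G} (hS : IsPGroup p S) (h : S ≠ ⊥) : ZJ S ≠ ⊥
theorem ZJ_cj (g : G) (S : Subgroup G) : cj g (ZJ S) = ZJ (cj g S)
-- 6.2 
theorem ZJ_normal {p : ℕ} [Fact p.Prime] {H S : Subgroup G} (ho : Odd #|H|) (hs : Group.IsSolvable H) (hS : IsSylowIn p S H) (h : Opp p H = ⊥) : ZJ S ⊴ H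
-- 6.2 
theorem ZJ_p'core_normal {p : ℕ} [Fact p.Prime] {H S : Subgroup G} (ho : Odd #|H|) (hs : Group.IsSolvable H) (hS : IsSylowIn p S H) : Opp p H ⊔ ZJ S ⊴ H
-- 6.2 
theorem ZJ_factorisation {p : ℕ} [Fact p.Prime] {H S : Subgroup G} (ho : Odd #|H|) (hs : Group.IsSolvable H) (hS : IsSylowIn p S H) : IsProd H (Opp p H) (H ⊓ 𝐍(ZJ S))
-- 6.3 (a) 
theorem coprime_der1_sdprod {K H M : Subgroup G} (h : IsSdp K H M) (hc : (#|K|).Coprime #|H|) (hs : Group.IsSolvable K) (hK : K ≤ der M) : ⁅K, H⁆ = K ∧ K ⊓ 𝐂(H) ≤ der K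
-- 6.3 (b) 
theorem prime_nil_der1_factor {M : Subgroup G} (hn : Group.IsNilpotent (der M)) (hp : ((der M).relIndex M).Prime) : IsHall (der M) M ∧ ∀ H, IsSdp (der M) H M → ⁅M, H⁆ = der M
-- 6.5 (a) 
theorem pprod_focal_coprime {K U H M : Subgroup G} (hM : K ⊔ U = M) (hK : K ⊴ M) (hH : H ≤ U) (hc : (#|K|).Coprime #|H|) : H ⊓ der M = H ⊓ der U
-- 6.5 (c) 
theorem pprod_trans_coprime {K U H M : Subgroup G} (hM : K ⊔ U = M) (hK : K ⊴ M) (hH : H ≤ U) (hc : (#|K|).Coprime #|H|) (hs : Group.IsSolvable M) {g : G} (hg : g ∈ M) (hHg : cj g H ≤ U) : ∃ u ∈ U, ∃ c ∈ K ⊓ 𝐂(H), g = u * c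
-- 6.5 (b) 
theorem pprod_norm_coprime_prod {K U H M : Subgroup G} (hM : K ⊔ U = M) (hK : K ⊴ M) (hH : H ≤ U) (hc : (#|K|).Coprime #|H|) (hs : Group.IsSolvable M) : IsProd (M ⊓ 𝐍(H)) (K ⊓ 𝐂(H)) (U ⊓ 𝐍(H))
-- 6.6 (a) 
theorem plength1_Hall_prod {p : ℕ} [Fact p.Prime] {H S : Subgroup G} (hS : IsSylowIn p S H) (hl : PLength1 p H) : Opp p H ⊔ S = Oppp p H
-- 6.6 (a) 
theorem plength1_Frattini {p : ℕ} [Fact p.Prime] {H S : Subgroup G} (hS : IsSylowIn p S H) (hl : PLength1 p H) : Opp p H ⊔ (H ⊓ 𝐍(S)) = H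
-- 6.6 (b) 
theorem plength1_Sylow_sub_der1 {p : ℕ} [Fact p.Prime] {H S : Subgroup G} (hS : IsSylowIn p S H) (hl : PLength1 p H) (h : S ≤ der H) : S ≤ der (H ⊓ 𝐍(S))
-- 6.6 (c) 
theorem plength1_Sylow_trans {p : ℕ} [Fact p.Prime] {H S Y : Subgroup G} (hS : IsSylowIn p S H) (hl : PLength1 p H) (hY : Y ≤ S) {g : G} (hg : g ∈ H) (hYg : cj g Y ≤ S) : ∃ u ∈ H ⊓ 𝐍(S), ∃ c ∈ H ⊓ 𝐂(Y), g = u * c
-- 6.6 (d) 
theorem plength1_Sylow_Jsub {p : ℕ} [Fact p.Prime] {H S Q : Subgroup G} (hS : IsSylowIn p S H) (hl : PLength1 p H) (hQ : Q ≤ H) (hp : IsPGroup p Q) : ∃ x ∈ H ⊓ 𝐂(Q ⊓ S), cj x Q ≤ S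
-- 6.7 
theorem sol_plength1_odd_pmaxElem_pcore {p : ℕ} [Fact p.Prime] {H E L : Subgroup G} (ho : Odd #|H|) (hs : Group.IsSolvable H) (hl : PLength1 p H) (hE : PMaxElem p H E) (hL : L ≤ H) (hEL : E ≤ 𝐍(L)) (hp : ¬ p ∣ #|L|) : L ≤ Opp p H
-/
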