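import Cfsg.Agent.FT.D07
import Cfsg.Agent.FT.I06
import Cfsg.Agent.FT.P07a

/- LINKED interface; the statements, proved in the imported files:

variable {G : Type u} [Group G] [Finite G] [MinCE G]
-- 7.1 
theorem normed_constrained_meet_trans {q : ℕ} [Fact q.Prime] {A H Q1 Q2 : Subgroup G} (hA : NormedConstrained A) (hq : q ∉ π(A)) (hAH : A ≤ H) (hH : H ≠ ⊤) (h1 : MaxNormSub ⊤ A {q} Q1) (h2 : MaxNormSub ⊤ A {q} Q2) (hn1 : Q1 ⊓ H ≠ ⊥) (hn2 : Q2 ⊓ H ≠ ⊥) : ∃ k ∈ centCore A, cj k Q1 = Q2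
-- 7.2 
theorem normed_constrained_rank3_trans {q : ℕ} [Fact q.Prime] {A : Subgroup G} (hA : NormedConstrained A) (hq : q ∉ π(A)) (hr : 3 ≤ rank (Zen A)) : MaxNormTrans (centCore A) A q
-- 7.3 
theorem normed_constrained_rank2_trans {q : ℕ} [Fact q.Prime] {A : Subgroup G} (hA : NormedConstrained A) (hq : q ∉ π(A)) (hC : q ∣ #|𝐂(A)|) (hr : 2 ≤ rank (Zen A)) : MaxNormTrans (centCore A) A q
-- 7.4 (`H7.SN A P`: `A` is subnormal in `P`, e.g. `H7.SN.of_isNilpotent`) 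
theorem normed_trans_superset {q : ℕ} [Fact q.Prime] {A P : Subgroup G} (hA : NormedConstrained A) (hq : q ∉ π(A)) (hsn : H7.SN A P) (hP : IsPiGroup π(A) P) (ht : MaxNormTrans (centCore A) A q) : centCore A ⊓ 𝐂(P) = Opi (π(A))ᶜ 𝐂(P) ∧ MaxNormTrans (Opi (π(A))ᶜ 𝐂(P)) P q ∧ (∀ Q, MaxNormSub ⊤ P {q} Q → MaxNormSub ⊤ A {q} Q) ∧ ∀ Q, MaxNormSub ⊤ P {q} Q → P ⊓ der 𝐍(P) ≤ der 𝐍(Q) ∧ IsProd 𝐍(P) (centCore A ⊓ 𝐂(P)) (𝐍(P) ⊓ 𝐍(Q))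
-- 7.5 (a) 
theorem plength_1_normed_constrained {p : ℕ} [Fact p.Prime] {A : Subgroup G} (hA : A ≠ ⊥) (hm : PMaxElem p ⊤ A) (h : ∀ M : Subgroup G, M ≠ ⊤ → PLength1 p M) : NormedConstrained A
-- 7.5 (b) 
theorem SCN_normed_constrained {p : ℕ} [Fact p.Prime] {P A : Subgroup G} (hP : IsSylowIn p P ⊤) (hA : SCN P A) (hr : 2 ≤ rank A) : NormedConstrained A
-- 7.6 
theorem Thompson_transitivity {p q : ℕ} [Fact p.Prime] [Fact q.Prime] {A : Subgroup G} (hA : SCNat 3 p A) (hq : q ≠ p) : MaxNormTrans (Opp p 𝐂(A)) A q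
-/
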