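import Cfsg.Agent.FT.I07
import Cfsg.Agent.FT.P08a

/- LINKED interface; the statements, proved in the imported files:

variable {G : Type u} [Group G] [Finite G] [MinCE G]
-- 8.1 (a) 
theorem non_pcore_Fitting_Uniqueness {p : ℕ} [Fact p.Prime] {M A0 : Subgroup G} (hM : IsCoatom M) (hF : ¬ IsPGroup p (Fit M)) (hA : PMaxElem p (Fit M) A0) (hr : 3 ≤ prank p A0) : Uniq (Fit M ⊓ 𝐂(A0))
-- 8.1 (b) 
theorem SCN_Fitting_Uniqueness {p : ℕ} [Fact p.Prime] {M P A : Subgroup G} (hM : IsCoatom M) (hF : IsPGroup p (Fit M)) (hP : IsSylowIn p P M) (hr : 3 ≤ prank p (Fit M)) (hA : SCN P A) (hA3 : 3 ≤ rank A) : IsSylowIn p P ⊤ ∧ A ≤ Fit M ∧ Uniq A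
-- 8.1, summary 
theorem Fitting_Uniqueness {M : Subgroup G} (hM : IsCoatom M) (hr : 3 ≤ rank (Fit M)) : Uniq (Fit M)
-/
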