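import Cfsg.Agent.FT.I08
import Cfsg.Agent.FT.P09a

/- LINKED interface; the statements, proved in the imported files:

variable {G : Type u} [Group G] [Finite G] [MinCE G]
-- 9.1 (b) 
theorem noncyclic_normed_sub_Uniqueness {p : ℕ} [Fact p.Prime] {M B : Subgroup G} (hM : IsCoatom M) (hB : B ≤ M) (hE : IsElementaryAbelian p B) (hc : ¬ IsCyclic B) (h : ∀ K : Subgroup G, ¬ p ∣ #|K| → B ≤ 𝐍(K) → K ≤ M) : Uniq B
-- 9.1 (a) 
theorem noncyclic_cent1_sub_Uniqueness {p : ℕ} [Fact p.Prime] {M B : Subgroup G} (hM : IsCoatom M) (hB : B ≤ M) (hE : IsElementaryAbelian p B) (hc : ¬ IsCyclic B) (h : ∀ b ∈ B, b ≠ 1 → 𝐂[b] ≤ M) : Uniq B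
-- 9.2 
theorem cent_uniq_Uniqueness {K L : Subgroup G} (hL : Uniq L) (hK : K ≤ 𝐂(L)) (hr : 2 ≤ rank K) : Uniq K
-- 9.3 
theorem any_cent_rank3_Uniquness {p : ℕ} [Fact p.Prime] {A B : Subgroup G} (hab : IsMulCommutative A) (hA : IsPGroup p A) (hr : 3 ≤ rank A) (hU : Uniq A) (hB : IsPGroup p B) (hc : ¬ IsCyclic B) (hC : 3 ≤ prank p 𝐂(B)) : Uniq B
-- 9.4 
theorem any_rank3_Fitting_Uniqueness {p : ℕ} [Fact p.Prime] {M P : Subgroup G} (hM : IsCoatom M) (hF : 3 ≤ prank p (Fit M)) (hP : IsPGroup p P) (hr : 3 ≤ rank P) : Uniq P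
-- 9.5 
theorem SCN_3_Uniqueness {p : ℕ} [Fact p.Prime] {A : Subgroup G} (hA : SCNat 3 p A) : Uniq A
-- 9.6, first part 
theorem rank3_Uniqueness {K : Subgroup G} (hK : K ≠ ⊤) (hr : 3 ≤ rank K) : Uniq K
-- 9.6, second part 
theorem cent_rank3_Uniqueness {K : Subgroup G} (h2 : 2 ≤ rank K) (hr : 3 ≤ rank 𝐂(K)) : Uniq K
-- 9.6 
theorem Uniqueness {K : Subgroup G} (hK : K ≠ ⊤) (h2 : 2 ≤ rank K) (hr : 3 ≤ rank K ∨ 3 ≤ rank 𝐂(K)) : Uniq K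
-- 9.6, last remark 
theorem nonmaxElem2_Uniqueness {p : ℕ} [Fact p.Prime] {A : Subgroup G} (hA : PElem p 2 ⊤ A) (hm : ¬ PMaxElem p ⊤ A) : Uniq A
-/
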