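import Cfsg.Agent.FT.I09
import Cfsg.Agent.FT.I03
import Cfsg.Agent.FT.P10a
import Cfsg.Agent.FT.P10b

/- LINKED interface; the statements, proved in the imported files:

variable {G : Type u} [Group G] [Finite G] [MinCE G]
theorem beta_sub_alpha (M : Subgroup G) : β(M) ⊆ α(M)
theorem alpha_sub_sigma {M : Subgroup G} (hM : IsCoatom M) : α(M) ⊆ σ(M)
theorem beta_sub_sigma {M : Subgroup G} (hM : IsCoatom M) : β(M) ⊆ σ(M)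
theorem Mbeta_sub_Malpha (M : Subgroup G) : Mbeta M ≤ Malpha M
theorem Malpha_sub_Msigma {M : Subgroup G} (hM : IsCoatom M) : Malpha M ≤ Msigma M
theorem Mbeta_sub_Msigma {M : Subgroup G} (hM : IsCoatom M) : Mbeta M ≤ Msigma M
theorem norm_sigma_Sylow {p : ℕ} {M P : Subgroup G} (hp : p ∈ σ(M)) (hP : IsSylowIn p P M) : 𝐍(P) ≤ M
theorem sigma_Sylow_G {p : ℕ} {M P : Subgroup G} (hp : p ∈ σ(M)) (hP : IsSylowIn p P M) : IsSylowIn p P ⊤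
theorem sigma_Sylow_neq1 {p : ℕ} {M P : Subgroup G} (hM : IsCoatom M) (hp : p ∈ σ(M)) (hP : IsSylowIn p P M) : P ≠ ⊥
theorem sigma_sub_pi {M : Subgroup G} (hM : IsCoatom M) : σ(M) ⊆ π(M)
theorem predI_sigma_alpha {M : Subgroup G} (hM : IsCoatom M) : σ(M) ∩ α((⊤ : Subgroup G)) = α(M)
theorem predI_sigma_beta {M : Subgroup G} (hM : IsCoatom M) : σ(M) ∩ β((⊤ : Subgroup G)) = β(M)
theorem sigma'_prank_le2 {p : ℕ} [Fact p.Prime] {M : Subgroup G} (hM : IsCoatom M) (hp : p ∉ σ(M)) : prank p M ≤ 2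
theorem alpha'_rank_le2 {M X : Subgroup G} (hX : X ≤ M) (h : IsPiGroup (α(M))ᶜ X) : rank X ≤ 2
-- a subgroup normalized by the normalizer of a Sylow subgroup 
theorem sigma_of_norm_sub {p : ℕ} [Fact p.Prime] {M P X : Subgroup G} (hP : IsSylowIn p P M) (hX : 𝐍(P) ≤ 𝐍(X)) (hN : 𝐍(X) ≤ M) : p ∈ σ(M)
-- 10.1 (d) 
theorem sigma_Sylow_trans {p : ℕ} {M P : Subgroup G} (hp : p ∈ σ(M)) (hP : IsSylowIn p P M) {g : G} (hg : cj g P ≤ M) : g ∈ M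
-- 10.1 (a), (b), (c) 
theorem sigma_group_trans {p : ℕ} {M X : Subgroup G} (hM : IsCoatom M) (hp : p ∈ σ(M)) (hX : IsPGroup p X) : (∀ g : G, X ≤ M → cj g X ≤ M → ∃ m ∈ M, ∃ c ∈ 𝐂(X), g = m * c) ∧ (∀ g h : G, X ≤ cj g M → X ≤ cj h M → ∃ c ∈ 𝐂(X), cj c (cj g M) = cj h M) ∧ (X ≤ M → IsProd 𝐍(X) 𝐂(X) (M ⊓ 𝐍(X)))
-- 10.1 (e) 
theorem sigma_group_trans_cent {p : ℕ} {M X : Subgroup G} (hM : IsCoatom M) (hp : p ∈ σ(M)) (hX : IsPGroup p X) (hXM : X ≤ M) (hC : 𝐂(X) ≤ M) {g : G} (hg : X ≤ cj g M) : g ∈ M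
-- 10.2 (a1) 
theorem Malpha_Hall {M : Subgroup G} (hM : IsCoatom M) : IsHallIn α(M) (Malpha M) M
-- 10.2 (b1) 
theorem Msigma_Hall {M : Subgroup G} (hM : IsCoatom M) : IsHallIn σ(M) (Msigma M) M
theorem pi_Msigma {M : Subgroup G} (hM : IsCoatom M) : π(Msigma M) = σ(M)
-- 10.2 (b2) 
theorem Msigma_Hall_G {M : Subgroup G} (hM : IsCoatom M) : IsHallIn σ(M) (Msigma M) ⊤
-- 10.2 (a2) 
theorem Malpha_Hall_G {M : Subgroup G} (hM : IsCoatom M) : IsHallIn α(M) (Malpha M) ⊤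
-- 10.2 (c) 
theorem Msigma_der1 {M : Subgroup G} (hM : IsCoatom M) : Msigma M ≤ der M
-- 10.2 (d1) 
theorem Malpha_quo_rank2 {M : Subgroup G} (hM : IsCoatom M) : rank (M ⁒ Malpha M) ≤ 2
theorem Malpha_quo_sub_Fitting {M : Subgroup G} (hM : IsCoatom M) : der M ⁒ Malpha M ≤ Fit (M ⁒ Malpha M)
-- 10.2 (d2) 
theorem Malpha_quo_nil {M : Subgroup G} (hM : IsCoatom M) : Group.IsNilpotent (der M ⁒ Malpha M)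
-- 10.2 (e) 
theorem Msigma_neq1 {M : Subgroup G} (hM : IsCoatom M) : Msigma M ≠ ⊥
-- 10.3 
theorem cent_alpha'_uniq {M X : Subgroup G} (hM : IsCoatom M) (hX : X ≤ M) (h : IsPiGroup (α(M))ᶜ X) (hr : 2 ≤ rank (Malpha M ⊓ 𝐂(X))) : Uniq (M ⊓ 𝐂(X))
-- 10.4 (a) 
theorem der1_quo_sigma' {p : ℕ} {M : Subgroup G} (hM : IsCoatom M) (hp : p ∣ (der M).relIndex M) : p ∉ σ(M)
-- 10.4 (b) 
theorem cent1_sigma'_Zgroup {p : ℕ} [Fact p.Prime] {M P : Subgroup G} (hM : IsCoatom M) (hp : p ∉ σ(M)) (hP : IsSylowIn p P M) (hP1 : P ≠ ⊥) : ∃ x ∈ omegaOne p (Zen P), x ≠ 1 ∧ ¬ UniqMax 𝐂[x] M ∧ IsZGroup ↥(Malpha M ⊓ 𝐂[x])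
-- 10.4 (c), first part 
theorem sigma'_rank2_max {p : ℕ} [Fact p.Prime] {M A : Subgroup G} (hM : IsCoatom M) (hp : p ∉ σ(M)) (hA : PElem p 2 M A) : PMaxElem p ⊤ A
-- 10.4 (c), second part 
theorem sigma'_rank2_beta' {p : ℕ} [Fact p.Prime] {M : Subgroup G} (hM : IsCoatom M) (hp : p ∉ σ(M)) (hr : prank p M = 2) : p ∉ β((⊤ : Subgroup G))
-- 10.5, first part 
theorem sigma'_norm_mmax_rank2 {p : ℕ} [Fact p.Prime] {M X : Subgroup G} (hM : IsCoatom M) (hp : p ∉ σ(M)) (hX : IsPGroup p X) (hN : 𝐍(X) ≤ M) : prank p M = 2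
-- 10.5, second part 
theorem sigma'1Elem_sub_p2Elem {p : ℕ} [Fact p.Prime] {M X : Subgroup G} (hM : IsCoatom M) (hp : p ∉ σ(M)) (hX : PElem p 1 ⊤ X) (hN : 𝐍(X) ≤ M) : ∃ A, PElem p 2 M A ∧ X ≤ A
-- 10.6 
theorem mFT_proper_plength1 (p : ℕ) [Fact p.Prime] {H : Subgroup G} (hH : H ≠ ⊤) : PLength1 p H
-- 10.7 (a) 
theorem mFT_Sylow_der1 {p : ℕ} [Fact p.Prime] {P : Subgroup G} (hP : IsSylowIn p P ⊤) : P ≤ der 𝐍(P)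
-- 10.7 (a) 
theorem mFT_Sylow_sdprod_commg {p : ℕ} [Fact p.Prime] {P V : Subgroup G} (hP : IsSylowIn p P ⊤) (hV : IsSdp P V 𝐍(P)) : ⁅P, V⁆ = P
-- 10.7 (b) 
theorem mFT_rank2_Sylow_cprod {p : ℕ} [Fact p.Prime] {P : Subgroup G} (hP : IsSylowIn p P ⊤) (hr : rank P ≤ 2) (hna : ¬ IsMulCommutative P) : ∃ S C : Subgroup G, ¬ IsMulCommutative S ∧ #|S| = p ^ 3 ∧ (∀ x ∈ S, x ^ p = 1) ∧ IsCp S C P ∧ IsCyclic C ∧ omegaOne p C = der S ∧ Zen S = der S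
-- 10.7 (c) 
theorem mFT_sub_Sylow_trans {p : ℕ} [Fact p.Prime] {P Q : Subgroup G} (hP : IsSylowIn p P ⊤) (hQ : Q ≤ P) {x : G} (hx : cj x Q ≤ P) : ∃ y ∈ 𝐍(P), ∃ c ∈ 𝐂(Q), x = y * c
-- 10.7 (d) 
theorem mFT_subnorm_Sylow {p : ℕ} [Fact p.Prime] {P Q : Subgroup G} (hP : IsSylowIn p P ⊤) (hQ : Q ≤ P) : IsSylowIn p (P ⊓ 𝐍(Q)) 𝐍(Q)
-- 10.7 (e) 
theorem mFT_Sylow_normalized {p : ℕ} [Fact p.Prime] {P Q R : Subgroup G} (hP : IsSylowIn p P ⊤) (hR : IsPGroup p R) (hQ : Q ≤ P ⊓ R) (hn : 𝐍(P) ≤ 𝐍(Q)) : 𝐍(R) ≤ 𝐍(Q)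
-- 10.8 (c) 
theorem beta_max_pdiv {p : ℕ} [Fact p.Prime] {M : Subgroup G} (hM : IsCoatom M) (hp : p ∉ β(M)) : IsHallIn {p}ᶜ (Opp p (der M)) (der M) ∧ IsHallIn {p}ᶜ (Opp p (Msigma M)) (Msigma M) ∧ ∀ q : ℕ, q.Prime → q ∣ (Opp p M).relIndex M → q ≤ p
-- 10.8 (a) 
theorem Mbeta_Hall {M : Subgroup G} (hM : IsCoatom M) : IsHallIn β(M) (Mbeta M) M
-- 10.8 (a) 
theorem Mbeta_Hall_G {M : Subgroup G} (hM : IsCoatom M) : IsHallIn β(M) (Mbeta M) ⊤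
theorem Mbeta_der1 {M : Subgroup G} (hM : IsCoatom M) : Mbeta M ≤ der M
-- 10.8 (b) 
theorem beta'_der1_nil {M H : Subgroup G} (hM : IsCoatom M) (hH : IsPiGroup (β(M))ᶜ H) (hle : H ≤ der M) : Group.IsNilpotent H
-- 10.8 (b) 
theorem Mbeta_quo_nil {M : Subgroup G} (hM : IsCoatom M) : Group.IsNilpotent (der M ⁒ Mbeta M)
-- 10.9 (a) 
theorem beta'_cent_Sylow {p q : ℕ} [Fact p.Prime] [Fact q.Prime] {M X : Subgroup G} (hM : IsCoatom M) (hp : p ∉ β(M)) (hq : q ∉ β(M)) (hX : IsPGroup q X) (h : (p ≠ q ∧ X ≤ der M) ∨ (p < q ∧ X ≤ M)) : (∃ P, IsSylowIn p P (Msigma M) ∧ X ≤ 𝐂(P)) ∧ (p ∈ α(M) → Uniq (M ⊓ 𝐂(X))) ∧ (IsSylowIn q X (der M) → ∃ P, IsSylowIn p P (der M) ∧ P ≤ der (M ⊓ 𝐍(X)))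
-- 10.9 (b) 
theorem nonuniq_norm_Sylow_pprod {p : ℕ} [Fact p.Prime] {M H S : Subgroup G} (hM : IsCoatom M) (hH : IsCoatom H) (hne : H ≠ M) (hS : IsSylowIn p S ⊤) (hN : 𝐍(S) ≤ H ⊓ M) : Mbeta M ⊔ (H ⊓ M) = M ∧ α(M) = β(M)
-- 10.10 
theorem max_normed_2Elem_signaliser {p q : ℕ} [Fact p.Prime] [Fact q.Prime] {A Q : Subgroup G} (hpq : p ≠ q) (hA : PElem p 2 ⊤ A) (hm : PMaxElem p ⊤ A) (hQ : MaxNormSub ⊤ A {q} Q) (hq : q ∣ #|𝐂(A)|) : ∃ P, IsSylowIn p P ⊤ ∧ A ≤ P ∧ IsProd 𝐍(P) (Opp p 𝐂(P)) (𝐍(P) ⊓ 𝐍(Q)) ∧ P ≤ der 𝐍(Q) ∧ (Narrow q Q → P ≤ 𝐂(Q))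
-- 10.11 (a) 
theorem sigma'_not_uniq {M K : Subgroup G} (hM : IsCoatom M) (hK : K ≤ M) (h : IsPiGroup (σ(M))ᶜ K) : ¬ Uniq K
-- 10.11 (b) 
theorem sub'cent_sigma_rank1 {M K : Subgroup G} (hM : IsCoatom M) (hK : K ≤ M) (h : IsPiGroup (σ(M))ᶜ K) : rank (K ⊓ 𝐂(Msigma M)) ≤ 1
-- 10.11 (c) 
theorem sub'cent_sigma_cyclic {M K : Subgroup G} (hM : IsCoatom M) (hK : K ≤ M) (h : IsPiGroup (σ(M))ᶜ K) : IsCyclic ↥(K ⊓ 𝐂(Msigma M) ⊓ der M) ∧ K ⊓ 𝐂(Msigma M) ⊓ der M ⊴ M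
-- 10.11 (d) 
theorem commG_sigma'_1Elem_cyclic {p : ℕ} [Fact p.Prime] {M K P : Subgroup G} (hM : IsCoatom M) (hK : K ≤ M) (h : IsPiGroup (σ(M))ᶜ K) (hp : p ∉ σ(M)) (hP : PElem p 1 (M ⊓ 𝐍(K)) P) (hC : Msigma M ⊓ 𝐂(P) = ⊥) (hpK : ¬ p ∣ #|K|) (hab : IsMulCommutative K) : ⁅K, P⁆ ≤ 𝐂(Msigma M) ∧ IsCyclic ↥⁅K, P⁆ ∧ ⁅K, P⁆ ⊴ M
-- 10.12 
theorem sigma_disjoint {M H : Subgroup G} (hM : IsCoatom M) (hH : IsCoatom H) (hne : ∀ g : G, cj g M ≠ H) : Malpha M ⊓ Msigma H = ⊥ ∧ Disjoint α(M) σ(H) ∧ (Group.IsNilpotent (Msigma M) → Msigma M ⊓ Msigma H = ⊥ ∧ Disjoint σ(M) σ(H))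
-- 10.13 
theorem basic_p2maxElem_structure {p : ℕ} [Fact p.Prime] {A P : Subgroup G} (hA : PElem p 2 ⊤ A) (hm : PMaxElem p ⊤ A) (hP : IsPGroup p P) (hAP : A ≤ P) (hna : ¬ IsMulCommutative P) : PElem p 1 A (omegaOne p (Zen P)) ∧ (∃ Z : Subgroup G, IsCyclic Z ∧ omegaOne p (Zen P) ≤ Z ∧ ∀ A₀, PElem p 1 A A₀ → A₀ ≠ omegaOne p (Zen P) → IsDp A₀ Z (P ⊓ 𝐂(A))) ∧ ∀ X Y, PElem p 1 A X → PElem p 1 A Y → X ≠ omegaOne p (Zen P) → Y ≠ omegaOne p (Zen P) → ∃ g ∈ P ⊓ 𝐍(A), cj g X = Y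
-- 10.14 (a) 
theorem beta_not_narrow {p : ℕ} (hp : p ∈ β((⊤ : Subgroup G))) : (∀ A : Subgroup G, PElem p 2 ⊤ A → ¬ PMaxElem p ⊤ A) ∧ ∀ P A : Subgroup G, IsSylowIn p P ⊤ → PElem p 2 P A → ¬ PMaxElem p P A
-- 10.14 (b) 
theorem beta_noncyclic_uniq {p : ℕ} {R : Subgroup G} (hp : p ∈ β((⊤ : Subgroup G))) (hR : IsPGroup p R) (hr : 2 ≤ rank R) : Uniq R
-- 10.14 (c) 
theorem beta_subnorm_uniq {p : ℕ} {P X : Subgroup G} (hp : p ∈ β((⊤ : Subgroup G))) (hP : IsSylowIn p P ⊤) (hX : X ≤ P) : Uniq (P ⊓ 𝐍(X))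
-- 10.14 (d) 
theorem beta_norm_sub_mmax {M Y : Subgroup G} (hM : IsCoatom M) (hY : Y ≤ M) (h : IsPiGroup β(M) Y) (hY1 : Y ≠ ⊥) : 𝐍(Y) ≤ M
-/
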