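import Cfsg.Agent.FT.I10
import Cfsg.Agent.FT.P11a

/- LINKED interface; the statements, proved in the imported files:

variable {G : Type u} [Group G] [Finite G] [MinCE G]
theorem sigma'_Sylow_contra {p : ℕ} [Fact p.Prime] {M P : Subgroup G} (hp : p ∉ σ(M)) (hP : IsSylowIn p P M) : ¬ 𝐍(P) ≤ M
theorem p_rank_exceptional {p : ℕ} [Fact p.Prime] {M A0 A : Subgroup G} (hM : IsCoatom M) (h : Exceptional p M A0 A) : prank p M = 2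
theorem exceptional_pmaxElem {p : ℕ} [Fact p.Prime] {M A0 A : Subgroup G} (hM : IsCoatom M) (h : Exceptional p M A0 A) : PMaxElem p ⊤ A
-- 11.1 
theorem exceptional_TIsigmaJ {p q : ℕ} [Fact p.Prime] [Fact q.Prime] {M A0 A Q1 Q2 : Subgroup G} (hM : IsCoatom M) (h : Exceptional p M A0 A) {g : G} (hg : g ∉ M) (hAg : A ≤ cj g M) (h1 : IsSylowIn q Q1 (Msigma M)) (hn1 : A ≤ 𝐍(Q1)) (h2 : IsSylowIn q Q2 (cj g (Msigma M))) (hn2 : A ≤ 𝐍(Q2)) : Q1 ⊓ Q2 = ⊥ ∧ ∀ X, PElem p 1 A X → Q1 ⊓ 𝐂(X) = ⊥ ∨ Q2 ⊓ 𝐂(X) = ⊥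
-- 11.2 
theorem exceptional_TI_MsigmaJ {p : ℕ} [Fact p.Prime] {M A0 A : Subgroup G} (hM : IsCoatom M) (h : Exceptional p M A0 A) {g : G} (hg : g ∉ M) (hAg : A ≤ cj g M) : Msigma M ⊓ cj g M = ⊥ ∧ Msigma M ⊓ 𝐂(cj g A0) = ⊥
-- 11.3 
theorem exceptional_sigma_nil {p : ℕ} [Fact p.Prime] {M A0 A : Subgroup G} (hM : IsCoatom M) (h : Exceptional p M A0 A) : Group.IsNilpotent (Msigma M)
-- 11.4 
theorem exceptional_sigma_uniq {p : ℕ} [Fact p.Prime] {M A0 A H : Subgroup G} (hM : IsCoatom M) (h : Exceptional p M A0 A) (hH : IsCoatom H) (hAH : A ≤ H) (hne : Msigma H ⊓ Msigma M ≠ ⊥) : H = M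
-- 11.5 
theorem exceptional_Sylow_abelian {p : ℕ} [Fact p.Prime] {M A0 A P : Subgroup G} (hM : IsCoatom M) (h : Exceptional p M A0 A) (hP : IsSylowIn p P M) : IsMulCommutative P
-- 11.6 
theorem exceptional_structure {p : ℕ} [Fact p.Prime] {M A0 A P : Subgroup G} (hM : IsCoatom M) (h : Exceptional p M A0 A) (hP : IsSylowIn p P M) (hAP : A ≤ P) : A = omegaOne p P ∧ Msigma M ⊓ 𝐂(A) = ⊥ ∧ ∃ A1 A2, PElem p 1 A A1 ∧ PElem p 1 A A2 ∧ A1 ≠ A2 ∧ Msigma M ⊓ 𝐂(A1) = ⊥ ∧ Msigma M ⊓ 𝐂(A2) = ⊥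
-- 11.7 
theorem exceptional_mul_sigma_normal {p : ℕ} [Fact p.Prime] {M A0 A : Subgroup G} (hM : IsCoatom M) (h : Exceptional p M A0 A) : Msigma M ⊔ A ⊴ M
-/
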