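import Cfsg.Agent.FT.Basic2
import Cfsg.Agent.FT.P12a
import Cfsg.Agent.FT.P12b
import Cfsg.Agent.FT.P12c
import Cfsg.Agent.FT.P12d
import Cfsg.Agent.FT.P12e

/- LINKED interface; the statements, proved in the imported files:

variable {G : Type u} [Group G] [Finite G] [MinCE G]
-- ### introduction 
theorem ex_sigma_compl {M : Subgroup G} (hM : IsCoatom M) : ∃ E, IsHallIn (σ(M))ᶜ E M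
theorem ex_sigma_compl_ge {M X : Subgroup G} (hM : IsCoatom M) (hX : X ≤ M) (h : IsPiGroup (σ(M))ᶜ X) : ∃ E, IsHallIn (σ(M))ᶜ E M ∧ X ≤ E
theorem sdprod_sigma {M E : Subgroup G} (hM : IsCoatom M) (hE : IsHallIn (σ(M))ᶜ E M) : IsSdp (Msigma M) E M
theorem coprime_sigma_compl {M E : Subgroup G} (hE : IsHallIn (σ(M))ᶜ E M) : (#|Msigma M|).Coprime #|E|
theorem der1_sigma_compl {M E : Subgroup G} (hM : IsCoatom M) (hE : IsHallIn (σ(M))ᶜ E M) : IsHallIn (σ(M))ᶜ (der E) (der M)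
theorem prank_sigma_compl {p : ℕ} [Fact p.Prime] {M E : Subgroup G} (hE : IsHallIn (σ(M))ᶜ E M) (hp : p ∉ σ(M)) : prank p E = prank p M
theorem partition_pi_mmax {p : ℕ} {M : Subgroup G} (hM : IsCoatom M) : p ∈ π(M) ↔ p ∈ tau2 M ∨ p ∈ tau13 M ∨ p ∈ σ(M)
theorem partition_pi_sigma_compl {p : ℕ} {M E : Subgroup G} (hM : IsCoatom M) (hE : IsHallIn (σ(M))ᶜ E M) : p ∈ π(E) ↔ p ∈ tau2 M ∨ p ∈ tau13 M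
theorem tau2E {p : ℕ} {M E : Subgroup G} (hM : IsCoatom M) (hE : IsHallIn (σ(M))ᶜ E M) : p ∈ tau2 M ↔ p ∈ π(E) ∧ prank p E = 2
theorem tau3E {p : ℕ} {M E : Subgroup G} (hM : IsCoatom M) (hE : IsHallIn (σ(M))ᶜ E M) : p ∈ tau3 M ↔ p ∈ π(der E) ∧ prank p E = 1
theorem tau1E {p : ℕ} {M E : Subgroup G} (hM : IsCoatom M) (hE : IsHallIn (σ(M))ᶜ E M) : p ∈ tau1 M ↔ p ∈ π(E) ∧ prank p E = 1 ∧ ¬ p ∣ #|der E|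
theorem ex_tau2Elem {p : ℕ} {M E : Subgroup G} (hM : IsCoatom M) (hE : IsHallIn (σ(M))ᶜ E M) (hp : p ∈ tau2 M) : ∃ A, PElem p 2 E A ∧ PElem p 2 M A
theorem sigma'2Elem_tau2 {p : ℕ} [Fact p.Prime] {M E A : Subgroup G} (hM : IsCoatom M) (hE : IsHallIn (σ(M))ᶜ E M) (hA : PElem p 2 E A) : p ∈ tau2 M
-- a `p`-subgroup of `M` with `p ∈ τ₁(M) ∪ τ₃(M)` is cyclic 
theorem tau13_pgroup_cyclic {p : ℕ} [Fact p.Prime] {M P : Subgroup G} (hp : p ∈ tau13 M) (hP : IsPGroup p P) (hPM : P ≤ M) : IsCyclic P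
theorem ex_tau2_compl {M E E1 E3 : Subgroup G} (hM : IsCoatom M) (hE : IsHallIn (σ(M))ᶜ E M) (h1 : IsHallIn (tau1 M) E1 E) (h3 : IsHallIn (tau3 M) E3 E) : ∃ E2, SigmaCompl M E E1 E2 E3
theorem ex_tau23_compl {M E E1 : Subgroup G} (hM : IsCoatom M) (hE : IsHallIn (σ(M))ᶜ E M) (h1 : IsHallIn (tau1 M) E1 E) : ∃ E2 E3, SigmaCompl M E E1 E2 E3
theorem ex_tau13_compl {M E E2 : Subgroup G} (hM : IsCoatom M) (hE : IsHallIn (σ(M))ᶜ E M) (h2 : IsHallIn (tau2 M) E2 E) : ∃ E1 E3, SigmaCompl M E E1 E2 E3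
theorem ex_tau12_compl {M E E3 : Subgroup G} (hM : IsCoatom M) (hE : IsHallIn (σ(M))ᶜ E M) (h3 : IsHallIn (tau3 M) E3 E) : ∃ E1 E2, SigmaCompl M E E1 E2 E3
theorem ex_sigma_compl_context {M E : Subgroup G} (hM : IsCoatom M) (hE : IsHallIn (σ(M))ᶜ E M) : ∃ E1 E2 E3, SigmaCompl M E E1 E2 E3
-- 12.1 (a) 
theorem der1_sigma_compl_nil {M E : Subgroup G} (hM : IsCoatom M) (hE : IsHallIn (σ(M))ᶜ E M) : Group.IsNilpotent (der E)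
-- 12.1 (g) 
theorem tau2_not_beta {p : ℕ} {M : Subgroup G} (hM : IsCoatom M) (hp : p ∈ tau2 M) : p ∉ β((⊤ : Subgroup G)) ∧ ∀ A, PElem p 2 M A → PMaxElem p ⊤ A
-- 12.1 (b) - (f) 
theorem sigma_compl_context {M E E1 E2 E3 : Subgroup G} (hM : IsCoatom M) (h : SigmaCompl M E E1 E2 E3) : (E3 ≤ der E ∧ E3 ⊴ E) ∧ (E2 = ⊥ → E1 ≠ ⊥) ∧ (IsCyclic E1 ∧ IsCyclic E3) ∧ (IsSdp E3 E2 (E3 ⊔ E2) ∧ IsSdp (E3 ⊔ E2) E1 E) ∧ E3 ⊓ 𝐂(E) = ⊥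
-- 12.2 (a) 
theorem prime_class_mmax_norm {p : ℕ} [Fact p.Prime] {M X : Subgroup G} (hM : IsCoatom M) (hX : IsPGroup p X) (hN : 𝐍(X) ≤ M) : p ∈ σ(M) ∨ p ∈ tau2 M
-- 12.2 (b) 
theorem mmax_norm_notJ {p : ℕ} [Fact p.Prime] {M L X : Subgroup G} (hM : IsCoatom M) (hL : IsCoatom L) (hX : IsPGroup p X) (hXM : X ≤ M) (hN : 𝐍(X) ≤ L) (h : (p ∈ σ(M) ∧ M ≠ L) ∨ p ∈ tau1 M ∨ p ∈ tau3 M) : ∀ g : G, cj g M ≠ L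
-- 12.3 
theorem nonuniq_p2Elem_cent_sigma {p : ℕ} [Fact p.Prime] {M L A A0 : Subgroup G} (hM : IsCoatom M) (hL : IsCoatom L) (hne : L ≠ M) (hA : PElem p 2 M A) (hA0 : PElem p 1 A A0) (hN : 𝐍(A0) ≤ L) : (p ∉ σ(M) → A ≤ 𝐂(Msigma M ⊓ L)) ∧ (p ∉ α(M) → A ≤ 𝐂(Malpha M ⊓ L))
-- 12.4 
theorem p2Elem_mmax {p : ℕ} [Fact p.Prime] {M A : Subgroup G} (hM : IsCoatom M) (hA : PElem p 2 M A) : 𝐂(A) ≤ M ∧ ((∀ A0, PElem p 1 A A0 → ¬ UniqMax 𝐍(A0) M) → p ∈ σ(M) ∧ Malpha M = ⊥ ∧ Group.IsNilpotent (Msigma M))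
-- 12.5 (a) 
theorem tau2_Msigma_nil {p : ℕ} {M : Subgroup G} (hM : IsCoatom M) (hp : p ∈ tau2 M) : Group.IsNilpotent (Msigma M)
-- 12.5 (b) - (f) 
theorem tau2_context {p : ℕ} [Fact p.Prime] {M A : Subgroup G} (hM : IsCoatom M) (hp : p ∈ tau2 M) (hA : PElem p 2 M A) : (∀ S, IsSylowIn p S M → IsMulCommutative S ∧ (A ≤ S → omegaOne p S = A ∧ ¬ 𝐍(S) ≤ M)) ∧ Msigma M ⊔ A ⊴ M ∧ Msigma M ⊓ 𝐂(A) = ⊥ ∧ (∀ L, IsCoatom L → A ≤ L → L ≠ M → Msigma M ⊓ L = ⊥) ∧ ∃ A1, PElem p 1 A A1 ∧ Msigma M ⊓ 𝐂(A1) = ⊥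
-- 12.6 (a), (b), (c), (f) 
theorem tau2_compl_context {p : ℕ} [Fact p.Prime] {M E A : Subgroup G} (hM : IsCoatom M) (hE : IsHallIn (σ(M))ᶜ E M) (hp : p ∈ tau2 M) (hA : PElem p 2 E A) : (A ⊴ E ∧ ∀ X, PElem p 1 E X → X ≤ A) ∧ (𝐂(A) ≤ E ∧ M ⊓ 𝐍(A) = E ∧ ¬ 𝐍(A) ≤ M) ∧ (∀ X, PElem p 1 E X → Msigma M ⊓ 𝐂(X) ≠ ⊥ → UniqMax 𝐂(X) M) ∧ ∀ L, IsCoatom L → (∀ g : G, cj g M ≠ L) → Msigma M ⊓ Msigma L = ⊥ ∧ Disjoint σ(M) σ(L)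
-- 12.6 (d), (e) 
theorem tau2_regular {p : ℕ} [Fact p.Prime] {M E E1 E2 E3 A : Subgroup G} (hM : IsCoatom M) (h : SigmaCompl M E E1 E2 E3) (hp : p ∈ tau2 M) (hA : PElem p 2 E A) : Semiregular (Msigma M) E3 ∧ Semiregular (Msigma M) (E1 ⊓ 𝐂(A)) ∧ PElem p 2 E2 A
-- 12.7 
theorem nonabelian_tau2 {p : ℕ} [Fact p.Prime] {M E A P0 : Subgroup G} (hM : IsCoatom M) (hE : IsHallIn (σ(M))ᶜ E M) (hp : p ∈ tau2 M) (hA : PElem p 2 E A) (hP0 : IsPGroup p P0) (hna : ¬ IsMulCommutative P0) : tau2 M = {p} ∧ (#|A ⊓ 𝐂(Msigma M)| = p ∧ IsDp (Msigma M) (A ⊓ 𝐂(Msigma M)) (Fit M)) ∧ (∀ X, PElem p 1 E X → X ≠ A ⊓ 𝐂(Msigma M) → Msigma M ⊓ 𝐂(X) = ⊥ ∧ ¬ 𝐂(X) ≤ M) ∧ ∃ E0, IsSdp (A ⊓ 𝐂(Msigma M)) E0 E ∧ ∀ x ∈ Msigma M, x ≠ 1 → π(E0 ⊓ 𝐂[x]) ⊆ tau1 M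
-- 12.8 (c) 
theorem Fitting_abelian_tau2 {p : ℕ} [Fact p.Prime] {M E A S : Subgroup G} (hM : IsCoatom M) (hE : IsHallIn (σ(M))ᶜ E M) (hp : p ∈ tau2 M) (hA : PElem p 2 E A) (hS : IsSylowIn p S ⊤) (hAS : A ≤ S) (hab : IsMulCommutative S) : der 𝐍(S) ≤ Fit E ∧ S ≤ der 𝐍(S) ∧ Fit E ≤ 𝐂(S) ∧ 𝐂(S) ≤ E
-- 12.8 (a), (b), (d), (e) 
theorem abelian_tau2 {p : ℕ} [Fact p.Prime] {M E E1 E2 E3 A S : Subgroup G} (hM : IsCoatom M) (h : SigmaCompl M E E1 E2 E3) (hp : p ∈ tau2 M) (hA : PElem p 2 E A) (hS : IsSylowIn p S ⊤) (hAS : A ≤ S) (hab : IsMulCommutative S) : (E2 ⊴ E ∧ IsMulCommutative E2) ∧ IsHallIn (tau2 M) E2 ⊤ ∧ (𝐍(A) = 𝐍(S) ∧ 𝐍(S) = 𝐍(E2) ∧ 𝐍(E2) = 𝐍(E3 ⊔ E2) ∧ 𝐍(E3 ⊔ E2) = 𝐍(Fit E)) ∧ (∀ (q : ℕ) (X : Subgroup G), q.Prime → PElem q 1 E1 X → Msigma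 M ⊓ 𝐂(X) = ⊥ → X ≤ Zen E) ∧ S ≤ E2
-- 12.8 (f) 
theorem abelian_tau2_norm_Sylow {p : ℕ} [Fact p.Prime] {M E A S X : Subgroup G} (hM : IsCoatom M) (hE : IsHallIn (σ(M))ᶜ E M) (hp : p ∈ tau2 M) (hA : PElem p 2 E A) (hS : IsSylowIn p S ⊤) (hAS : A ≤ S) (hab : IsMulCommutative S) (hX : X ≤ 𝐍(S)) : S ⊓ 𝐂(X) ⊴ 𝐍(S) ∧ ⁅S, X⁆ ⊴ 𝐍(S)
-- 12.9 
theorem tau1_act_tau2 {p q : ℕ} [Fact p.Prime] {M E A Q : Subgroup G} (hM : IsCoatom M) (hE : IsHallIn (σ(M))ᶜ E M) (hp : p ∈ tau2 M) (hA : PElem p 2 E A) (hq : q ∈ tau1 M) (hQ : PElem q 1 E Q) (hreg : Msigma M ⊓ 𝐂(Q) = ⊥) (hne : ⁅A, Q⁆ ≠ ⊥) : (PElem p 1 A ⁅A, Q⁆ ∧ A ⊓ 𝐂(Msigma M) = ⁅A, Q⁆ ∧ ⁅A, Q⁆ ⊴ M) ∧ (∀ g : G, cj g (A ⊓ 𝐂(Q)) ≠ ⁅A, Q⁆) ∧ PElem p 1 A (A ⊓ 𝐂(Q)) ∧ ¬ 𝐂(A ⊓ 𝐂(Q)) ≤ M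
-- 12.10 (a) 
theorem sigma'_nil_abelian {M N : Subgroup G} (hM : IsCoatom M) (hN : N ≤ M) (h : IsPiGroup (σ(M))ᶜ N) (hn : Group.IsNilpotent N) : IsMulCommutative N
-- 12.10 (b) 
theorem der_mmax_compl_abelian {M E : Subgroup G} (hM : IsCoatom M) (hE : IsHallIn (σ(M))ᶜ E M) : IsMulCommutative (der E)
-- 12.10 (b) 
theorem tau2_compl_abelian {M E E2 : Subgroup G} (hM : IsCoatom M) (hE : IsHallIn (σ(M))ᶜ E M) (h2 : IsHallIn (tau2 M) E2 E) : IsMulCommutative E2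
-- 12.10 (c) 
theorem tau1_cent_tau2Elem_factor {p : ℕ} [Fact p.Prime] {M E A : Subgroup G} (hM : IsCoatom M) (hE : IsHallIn (σ(M))ᶜ E M) (hp : p ∈ tau2 M) (hA : PElem p 2 E A) : E ⊓ 𝐂(A) ⊴ E ∧ IsPiNum (tau1 M) ((E ⊓ 𝐂(A)).relIndex E) ∧ ∀ P : Subgroup G, IsPGroup p P → P ≤ E → P ≤ 𝐂(A)
-- 12.10 (d) 
theorem norm_noncyclic_sigma {p : ℕ} [Fact p.Prime] {M P : Subgroup G} (hM : IsCoatom M) (hp : p ∈ σ(M)) (hP : IsPGroup p P) (hPM : P ≤ M) (hc : ¬ IsCyclic P) : 𝐍(P) ≤ M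
-- 12.10 (e) 
theorem cent1_nreg_sigma_uniq {M : Subgroup G} {x : G} (hM : IsCoatom M) (hx : x ∈ M) (hx1 : x ≠ 1) (h2 : IsPiElt (tau2 M) x) (hne : Msigma M ⊓ 𝐂[x] ≠ ⊥) : UniqMax 𝐂[x] M
-- 12.11 
theorem primes_norm_tau2Elem {p : ℕ} [Fact p.Prime] {M E A L : Subgroup G} (hM : IsCoatom M) (hE : IsHallIn (σ(M))ᶜ E M) (hp : p ∈ tau2 M) (hA : PElem p 2 E A) (hL : IsCoatom L) (hN : 𝐍(A) ≤ L) : (∀ q ∈ tau2 M, q ∈ σ(L) ∧ q ∉ β(L)) ∧ IsPiNum (tau1 L ∪ tau2 L) ((E ⊓ 𝐂(A)).relIndex E) ∧ ∀ q : ℕ, q.Prime → q ∣ (E ⊓ 𝐂(A)).relIndex E → q ∣ #|E ⊓ 𝐂(A)| → q ∈ tau2 L ∧ (∃ P, IsSylowIn p P ⊤ ∧ P ⊴ L) ∧ ∃ Q, IsSylowIn q Q ⊤ ∧ Q ≤ L ∧ IsMulCommutative Q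
-- 12.12, generalized to a normal Hall subgroup `U` of `E` 
theorem FTtypeF_complement {M E U : Subgroup G} (hM : IsCoatom M) (hE : IsHallIn (σ(M))ᶜ E M) (hU : IsHall U E) (hUE : U ⊴ E) (hne : U ≠ ⊥) (hreg : ∀ e ∈ U, e ≠ 1 → IsPiElt (tau13 M) e → Msigma M ⊓ 𝐂[e] = ⊥) : (∃ A0, A0 ⊴ E ∧ A0 ≤ U ∧ IsMulCommutative A0 ∧ ∀ x ∈ Msigma M, x ≠ 1 → U ⊓ 𝐂[x] ≤ A0) ∧ ∃ E0, E0 ≤ U ∧ Monoid.exponent E0 = Monoid.exponent U ∧ IsFrob (Msigma M) E0 (Msigma M ⊔ E0)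
-- 12.13 
theorem nonabelian_Uniqueness {p : ℕ} [Fact p.Prime] {P : Subgroup G} (hP : IsPGroup p P) (hna : ¬ IsMulCommutative P) : Uniq P
-- 12.14 
theorem cent_der_sigma_uniq {p : ℕ} [Fact p.Prime] {M X P : Subgroup G} (hM : IsCoatom M) (hX : PElem p 1 M X) (hP : IsSylowIn p P (Msigma M)) (h : p ∈ β(M) ∨ X ≤ der (Msigma M)) : UniqMax 𝐂(X) M ∧ UniqMax P M
-- 12.15 
theorem sigma_subgroup_embedding {q : ℕ} [Fact q.Prime] {M X L S : Subgroup G} (hM : IsCoatom M) (hq : q ∈ σ(M)) (hXM : X ≤ M) (hX : IsPGroup q X) (hX1 : X ≠ ⊥) (hL : IsCoatom L) (hN : 𝐍(X) ≤ L) (hne : L ≠ M) (hS : IsSylowIn q S (M ⊓ L)) (hXS : X ≤ S) : (∀ g : G, cj g M ≠ L) ∧ 𝐍(S) ≤ M ∧ IsSylowIn q S L ∧ (q ∈ σ(L) → IsProd L (Mbeta L) (M ⊓ L) ∧ tau1 L ⊆ tau1 M ∪ α(M) ∧ Mbeta M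 = Malpha M ∧ Malpha M ≠ ⊥) ∧ (q ∉ σ(L) → q ∈ tau2 L ∧ π(M) ∩ σ(L) ⊆ β(L) ∧ IsHallIn (σ(L))ᶜ (M ⊓ L) L)
-- 12.16 
theorem sigma_Jsub {M Y : Subgroup G} (hM : IsCoatom M) (hY : IsPiGroup σ(M) Y) (hY1 : Y ≠ ⊥) : (∃ g : G, cj g Y ≤ Msigma M) ∧ ∀ (E : Subgroup G) (p : ℕ) (H : Subgroup G), IsHallIn (σ(M))ᶜ E M → p ∈ π(E) → p ∉ β((⊤ : Subgroup G)) → IsCoatom H → Y ≤ H → (∀ g : G, cj g M ≠ H) → prank p (H ⊓ 𝐍(Y)) ≤ 1 ∧ (p ∈ tau1 M → p ∉ π(der (H ⊓ 𝐍(Y))))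
-- 12.17 
theorem sigma_compl_embedding {M E : Subgroup G} (hM : IsCoatom M) (hE : IsHallIn (σ(M))ᶜ E M) : Msigma M ⊓ 𝐂(E) ≤ der (Msigma M) ∧ ⁅Msigma M, E⁆ = Msigma M ∧ ∀ g : G, g ∉ M → IsCyclic ↥(Msigma M ⊓ cj g M) ∧ IsPiGroup (β(M))ᶜ (Msigma M ⊓ cj g M) ∧ der (Msigma M) ⊓ cj g M = ⊥
-- 12.18 
theorem cent_Malpha_reg_tau1 {p q : ℕ} [Fact p.Prime] [Fact q.Prime] {M P Q : Subgroup G} (hM : IsCoatom M) (hp : p ∈ tau1 M) (hqp : q ≠ p) (hP : PElem p 1 M P) (hQ1 : Q ≠ ⊥) (hPQ : P ≤ 𝐍(Q)) (hreg : Q ⊓ 𝐂(P) = ⊥) (hnu : ¬ UniqMax 𝐍(Q) M) : (Malpha M ≠ ⊥ → q ∉ α(M) → IsPGroup q Q → Q ≤ M → Malpha M ⊓ 𝐂(P) ≠ ⊥ ∧ Malpha M ⊓ 𝐂(Q ⊔ P) = ⊥) ∧ (IsSylowIn q Q M → α(M) = β(M) ∧ Malpha M ≠ ⊥ ∧ q ∉ α(M) ∧ Malpha M ⊓ 𝐂(P) ≠ ⊥ ∧ Malpha M ⊓ 𝐂(Q ⊔ P) = ⊥)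
-- 12.19 
theorem der_compl_cent_beta' {M E : Subgroup G} (hM : IsCoatom M) (hE : IsHallIn (σ(M))ᶜ E M) : ∃ H, IsHallIn (β(M))ᶜ H (Msigma M) ∧ der E ≤ 𝐂(H)
-/
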