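import Cfsg.Agent.FT.Basic2
import Cfsg.Agent.FT.P13a
import Cfsg.Agent.FT.P13b

/- LINKED interface; the statements, proved in the imported files:

variable {G : Type u} [Group G] [Finite G] [MinCE G]
-- 13.1 
theorem Msigma_setI_mmax_central {p : ℕ} [Fact p.Prime] {M E H : Subgroup G} (hM : IsCoatom M) (hE : IsHallIn (σ(M))ᶜ E M) (hH : IsCoatom H) (hpE : p ∈ π(E)) (hpH : p ∈ π(H)) (h1 : p ∉ tau1 H) (hne : ⁅Msigma M ⊓ H, M ⊓ H⁆ ≠ ⊥) (hJ : ∀ g : G, cj g M ≠ H) : (∀ P : Subgroup G, P ≤ M ⊓ H → IsPGroup p P → P ≤ 𝐂(Msigma M ⊓ H)) ∧ p ∉ tau2 H ∧ (p ∈ tau1 M → p ∈ β((⊤ : Subgroup G)))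
-- 13.2 
theorem cent_norm_tau13_mmax {p : ℕ} [Fact p.Prime] {M E P H : Subgroup G} (hM : IsCoatom M) (hE : IsHallIn (σ(M))ᶜ E M) (hp : p ∈ tau13 M) (hPM : P ≤ M) (hP : IsPGroup p P) (hH : IsCoatom H) (hN : 𝐍(P) ≤ H) : (∀ P1 : Subgroup G, P1 ≤ M ⊓ H → IsPGroup p P1 → P1 ≤ 𝐂(Msigma M ⊓ H)) ∧ (∀ X : Subgroup G, X ≤ E ⊓ H → IsPiGroup (tau1 H)ᶜ X → X ≤ 𝐂(Msigma M ⊓ H)) ∧ (⁅Msigma M ⊓ H, M ⊓ H⁆ ≠ ⊥ → p ∈ σ(H) ∧ (p ∈ tau1 M → p ∈ β(H)))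
-- 13.3 (a) 
theorem cyclic_primact_Msigma {p : ℕ} [Fact p.Prime] {M E P : Subgroup G} (hM : IsCoatom M) (hE : IsHallIn (σ(M))ᶜ E M) (hP : IsSylowIn p P E) (hc : IsCyclic P) : Semiprime (Msigma M) P
-- 13.3 (b) 
theorem tau3_primact_Msigma {M E E3 : Subgroup G} (hM : IsCoatom M) (hE : IsHallIn (σ(M))ᶜ E M) (h3 : IsHallIn (tau3 M) E3 E) : Semiprime (Msigma M) E3
-- 13.4 
theorem cent_tau1Elem_Msigma {p r : ℕ} [Fact p.Prime] [Fact r.Prime] {M E P R : Subgroup G} (hM : IsCoatom M) (hE : IsHallIn (σ(M))ᶜ E M) (hp : p ∈ tau1 M) (hP : PElem p 1 E P) (hR : PElem r 1 (E ⊓ 𝐂(P)) R) : Msigma M ⊓ 𝐂(P) ≤ Msigma M ⊓ 𝐂(R)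
-- 13.5 
theorem tau1_primact_Msigma {M E E1 : Subgroup G} (hM : IsCoatom M) (hE : IsHallIn (σ(M))ᶜ E M) (h1 : IsHallIn (tau1 M) E1 E) : Semiprime (Msigma M) E1
-- 13.6 
theorem cent_cent_Msigma_tau1_uniq {q : ℕ} [Fact q.Prime] {M E E1 P X S : Subgroup G} (hM : IsCoatom M) (hE : IsHallIn (σ(M))ᶜ E M) (h1 : IsHallIn (tau1 M) E1 E) (hP : P ≤ E1) (hP1 : P ≠ ⊥) (hX : PElem q 1 (Msigma M ⊓ 𝐂(P)) X) (hS : IsSylowIn q S (Msigma M)) : UniqMax 𝐂(X) M ∧ UniqMax S M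
-- 13.7 
theorem tau13_primact_Msigma {M E E1 E2 E3 : Subgroup G} (hM : IsCoatom M) (h : SigmaCompl M E E1 E2 E3) (hn : ¬ Semiregular E3 E1) : Semiprime (Msigma M) (E3 ⊔ E1)
-- 13.8 
theorem tau1_mmaxI_asymmetry {p q r : ℕ} [Fact p.Prime] [Fact q.Prime] [Fact r.Prime] {M L P Q R : Subgroup G} (hM : IsCoatom M) (hL : IsCoatom L) (hJ : ∀ g : G, cj g M ≠ L) (hpM : p ∈ tau1 M) (hpL : p ∈ tau1 L) (hP : PElem p 1 (M ⊓ L) P) (hQ : IsSylowIn q Q (M ⊓ L)) (hR : IsSylowIn r R (M ⊓ L)) (hPQ : P ≤ 𝐍(Q)) (hPR : P ≤ 𝐍(R)) (hcQ : Q ⊓ 𝐂(P) = ⊥) (hcR : R ⊓ 𝐂(P) = ⊥) (hNQ : 𝐍(Q) ≤ L) (hNR : 𝐍(R) ≤ M) : False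
-- 13.9 
theorem sigma_partition {M L : Subgroup G} (hM : IsCoatom M) (hL : IsCoatom L) (hJ : ∀ g : G, cj g M ≠ L) : Disjoint σ(M) σ(L)
-- 13.10 
theorem tau13_regular {p : ℕ} [Fact p.Prime] {M E E1 E2 E3 P : Subgroup G} (hM : IsCoatom M) (h : SigmaCompl M E E1 E2 E3) (hP : PElem p 1 E1 P) (hn : ¬ P ≤ 𝐂(E3)) : Semiregular E3 E1 ∧ Semiregular (Msigma M) E3 ∧ Msigma M ⊓ 𝐂(P) ≠ ⊥
-- 13.11 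
theorem tau13_nonregular {M E E1 E2 E3 : Subgroup G} (hM : IsCoatom M) (h : SigmaCompl M E E1 E2 E3) (hn : ¬ Semiregular (Msigma M) E3) : E1 ≠ ⊥ ∧ IsSdp E3 E1 E ∧ Semiprime (Msigma M) E ∧ ∀ (p : ℕ) (X : Subgroup G), p.Prime → PElem p 1 E X → X ⊴ E
-- 13.12 
theorem tau12_regular {p q : ℕ} [Fact p.Prime] [Fact q.Prime] {M E P A : Subgroup G} (hM : IsCoatom M) (hE : IsHallIn (σ(M))ᶜ E M) (hp : p ∈ tau1 M) (hP : PElem p 1 E P) (hq : q ∈ tau2 M) (hA : PElem q 2 E A) (hne : A ⊓ 𝐂(P) ≠ ⊥) : Msigma M ⊓ 𝐂(P) = ⊥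
-- 13.13 
theorem tau13_nonregular_sigma {p : ℕ} [Fact p.Prime] {M H P : Subgroup G} (hM : IsCoatom M) (hP : PElem p 1 M P) (hp : p ∈ tau13 M) (hne : Msigma M ⊓ 𝐂(P) ≠ ⊥) (hH : IsCoatom H) (hN : 𝐍(P) ≤ H) : p ∈ σ(H)
-/
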