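import Cfsg.Agent.FT.D14
import Cfsg.Agent.FT.P14a
import Cfsg.Agent.FT.P14b
import Cfsg.Agent.FT.P14c
import Cfsg.Agent.FT.P14d
import Cfsg.Agent.FT.P14e

/- LINKED interface; the statements, proved in the imported files:

variable {G : Type u} [Group G] [Finite G] [MinCE G]
-- ### the σ-decomposition 
theorem ell_sigmaJ (x z : G) : ell (z * x * z⁻¹) = ell x
theorem sigma_mmaxJ {M : Subgroup G} {x : G} (z : G) : SigmaMax (z * x * z⁻¹) (cj z M) ↔ SigmaMax x M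
theorem card_sigma_mmaxJ (x z : G) : nSigmaMax (z * x * z⁻¹) = nSigmaMax x
theorem sigma_decomposition_constt' {M : Subgroup G} (x : G) (hM : IsCoatom M) : sdecomp (constt (σ(M))ᶜ x) = sdecomp x \ {constt σ(M) x}
theorem sigma_mmax_exists {p : ℕ} (hp : p ∈ π((⊤ : Subgroup G))) : ∃ M : Subgroup G, IsCoatom M ∧ p ∈ σ(M)
theorem ell_sigma0P {x : G} : ell x = 0 ↔ x = 1
theorem ell1_decomposition {x : G} (h : ell x = 1) : sdecomp x = {x}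
theorem ell_sigma1P {x : G} : ell x = 1 ↔ x ≠ 1 ∧ ∃ M, SigmaMax x M
theorem Msigma_ell1 {M : Subgroup G} {x : G} (hM : IsCoatom M) (hx : x ∈ Msigma M) (hx1 : x ≠ 1) : ell x = 1
theorem sigma_elt_ell1 {M : Subgroup G} {x : G} (hM : IsCoatom M) (hx : IsPiElt σ(M) x) (hx1 : x ≠ 1) : ell x = 1
theorem sigma_decomposition_ell1 {x y : G} (h : y ∈ sdecomp x) : ell y = 1
-- ### `κ(M)` and the types 
theorem kappa_pi (M : Subgroup G) : κ(M) ⊆ π(M)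
theorem kappa_sigma' (M : Subgroup G) : κ(M) ⊆ (σ(M))ᶜ
theorem rank_kappa {p : ℕ} {M : Subgroup G} (hp : p ∈ κ(M)) : prank p M = 1
theorem kappa_nonregular {p : ℕ} {M P : Subgroup G} (hp : p ∈ κ(M)) (hP : PElem p 1 M P) : Msigma M ⊓ 𝐂(P) ≠ ⊥
theorem ex_kappa_Hall {M X : Subgroup G} (hM : IsCoatom M) (hX : X ≤ M) (h : IsPiGroup κ(M) X) : ∃ K, IsHallIn κ(M) K M ∧ X ≤ K
theorem ex_kappa_compl {M K : Subgroup G} (hM : IsCoatom M) (hK : IsHallIn κ(M) K M) : ∃ U, KappaCompl M U K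
theorem FtypeP {M : Subgroup G} : TypeF M ↔ IsCoatom M ∧ κ(M) = ∅
theorem PtypeP {M : Subgroup G} : TypeP M ↔ IsCoatom M ∧ ∃ p, p ∈ κ(M)
theorem trivg_kappa {M K : Subgroup G} (hM : IsCoatom M) (hK : IsHallIn κ(M) K M) : K = ⊥ ↔ TypeF M
theorem trivgPmax {M K : Subgroup G} (hM : IsCoatom M) (hK : IsHallIn κ(M) K M) : K ≠ ⊥ ↔ TypeP M
theorem trivg_kappa_compl {M U K : Subgroup G} (hM : IsCoatom M) (h : KappaCompl M U K) : U = ⊥ ↔ TypeP1 M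
-- 14.1 
theorem sigma'_kappa'_facts {p : ℕ} [Fact p.Prime] {M S : Subgroup G} (hM : IsCoatom M) (hS : IsSylowIn p S M) (hS1 : S ≠ ⊥) (h : IsPiGroup (sigmaKappa M)ᶜ S) : (TypeF M ∨ TypeP2 M) ∧ #|omegaOne p S| ≤ p ^ 2 ∧ Msigma M ⊓ 𝐂(omegaOne p S) = ⊥ ∧ Group.IsNilpotent (Msigma M)
theorem notP1type_Msigma_nil {M : Subgroup G} (h : TypeF M ∨ TypeP2 M) : Group.IsNilpotent (Msigma M)
-- 14.2 (a) 
theorem kappa_compl_context {M U K : Subgroup G} (hM : IsCoatom M) (h : KappaCompl M U K) : IsHallIn (σ(M))ᶜ (U ⊔ K) M ∧ IsSdp U K (U ⊔ K) ∧ IsSdp (Msigma M) (U ⊔ K) M ∧ Semiprime (Msigma M) K ∧ Semiregular U K ∧ (K ≠ ⊥ → IsMulCommutative U)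
-- 14.2 (b) - (g) 
theorem Ptype_structure {M K : Subgroup G} (hM : TypeP M) (hK : IsHallIn κ(M) K M) : (IsDp K (Kstar M K) (M ⊓ 𝐍(K)) ∧ ∀ (p : ℕ) (X : Subgroup G), p.Prime → PElem p 1 K X → M ⊓ 𝐍(X) = M ⊓ 𝐍(K) ∧ ∀ L, IsCoatom L → 𝐍(X) ≤ L → X ≤ Msigma L) ∧ (Kstar M K ≠ ⊥ ∧ ∀ (p : ℕ) (X : Subgroup G), p.Prime → PElem p 1 (Kstar M K) X → UniqMax 𝐂(X) M) ∧ ((∀ g : G, g ∉ M → Kstar M K ⊓ cj g M = ⊥) ∧ ∀ g ∈ M, g ∉ 𝐍(K) → K ⊓ cj g K = ⊥) ∧ (∀ p ∈ π(Kstar M K), ∀ S, IsSylowIn p S (Msigma M) → UniqMax S M ∧ ¬ S ≤ Kstar M K) ∧ (∀ Y : Subgroup G, IsPiGroup σ(M) Y → Y ⊓ Kstar M K ≠ ⊥ → Y ≤ Msigma M) ∧ (TypeP2 M → σ(M) = β(M) ∧ (#|K|).Prime ∧ Group.IsNilpotent (Msigma M) ∧ NormedTI (sharp (Msigma M : Set G)) ⊤ M)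
-- 14.3 
theorem pi_of_cent_sigma {M : Subgroup G} {x y : G} (hM : IsCoatom M) (hx : x ∈ Msigma M) (hx1 : x ≠ 1) (hy : y ∈ M ⊓ 𝐂[x]) (hy1 : y ≠ 1) (h : IsPiElt (σ(M))ᶜ y) : (IsPiElt κ(M) y ∧ 𝐂[x] ≤ M) ∨ (IsPiElt (tau2 M) y ∧ ell y = 1 ∧ UniqMax 𝐂[y] M)
-- 14.4, first half 
theorem FT_signalizer_trans {x : G} (hx : ell x = 1) : (∀ M L, SigmaMax x M → SigmaMax x L → ∃ r ∈ sigR x, cj r M = L) ∧ #|sigR x| = nSigmaMax x ∧ sigR x ⊴ 𝐂[x] ∧ IsHall (sigR x) 𝐂[x]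
-- 14.4, second half 
theorem FT_signalizer_context {x : G} (hx : ell x = 1) (h : 1 < nSigmaMax x) : UniqMax 𝐂[x] (sigBase x) ∧ sigR x ≠ ⊥ ∧ IsPiElt (tau2 (sigBase x)) x ∧ (TypeF (sigBase x) ∨ TypeP2 (sigBase x)) ∧ ∀ M, SigmaMax x M → IsSdp (sigR x) (M ⊓ sigBase x ⊓ 𝐂[x]) 𝐂[x] ∧ tau2 (sigBase x) ⊆ σ(M) ∧ π(M) ∩ σ(sigBase x) ⊆ β(sigBase x) ∧ IsHallIn (σ(sigBase x))ᶜ (M ⊓ sigBase x) (sigBase x)
theorem cent1_sub_uniq_sigma_mmax {M : Subgroup G} {x : G} (h : nSigmaMax x = 1) (hM : SigmaMax x M) : 𝐂[x] ≤ M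
-- `C(x) ⊄ M` iff `x` lies in several `M_σ` 
theorem cent1_not_sub_sigma_mmax {M : Subgroup G} {x : G} (hM : SigmaMax x M) (hx1 : x ≠ 1) : ¬ 𝐂[x] ≤ M ↔ 1 < nSigmaMax x
theorem FT_signalizer_baseJ {x : G} (z : G) (hx : ell x = 1) : sigBase (z * x * z⁻¹) = cj z (sigBase x)
theorem FT_signalizerJ {x : G} (z : G) (hx : ell x = 1) : sigR (z * x * z⁻¹) = cj z (sigR x)
theorem sigma_coverJ {x y : G} (z : G) (hx : ell x = 1) : z * y * z⁻¹ ∈ sigmaCover (z * x * z⁻¹) ↔ y ∈ sigmaCover x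
theorem sigma_supportJ {M : Subgroup G} {y : G} (z : G) (hM : IsCoatom M) : z * y * z⁻¹ ∈ sigmaSupport (cj z M) ↔ y ∈ sigmaSupport M
theorem sigma_cover_decomposition {x y : G} (hx : ell x = 1) (hy : y ∈ sigR x) : sdecomp (x * y) = insert x (sharp {y})
-- `x` is the `σ(M)`-part of the elements of `x R(x)` 
theorem constt_sigma_cover {M : Subgroup G} {x y : G} (hM : SigmaMax x M) (hx1 : x ≠ 1) (hy : y ∈ sigR x) : IsPiElt (σ(M))ᶜ y ∧ constt σ(M) (x * y) = x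
theorem mem_sigma_cover_decomposition {x g : G} (hx : ell x = 1) (hg : g ∈ sigmaCover x) : x ∈ sdecomp g
theorem one_not_mem_sigma_support {M : Subgroup G} (hM : IsCoatom M) : (1 : G) ∉ classSupport (sigmaSupport M) ⊤
-- 14.5 (a) 
theorem sigma_cover_disjoint {x y : G} (hx : ell x = 1) (hy : ell y = 1) (hne : x ≠ y) : Disjoint (sigmaCover x) (sigmaCover y)
-- 14.5 (b) 
theorem sigma_support_disjoint {M L : Subgroup G} (hM : IsCoatom M) (hL : IsCoatom L) (hJ : ∀ g : G, cj g M ≠ L) : Disjoint (classSupport (sigmaSupport M) ⊤) (classSupport (sigmaSupport L) ⊤)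
-- 14.5 (c) 
theorem card_class_support_sigma {M : Subgroup G} (hM : IsCoatom M) : (classSupport (sigmaSupport M) ⊤).ncard = (#|Msigma M| - 1) * M.index
-- 14.6 
theorem sigma_decomposition_dichotomy {g : G} (hg : g ≠ 1) : Xor' (∃ x, ell x = 1 ∧ x⁻¹ * g ∈ sigR x) (∃ y, ell y = 1 ∧ ∃ M, SigmaMax y M ∧ y⁻¹ * g ∈ M ⊓ 𝐂[y] ∧ y⁻¹ * g ≠ 1 ∧ IsPiElt κ(M) (y⁻¹ * g))
-- 14.7 
theorem Ptype_embedding {M K : Subgroup G} (hM : TypeP M) (hK : IsHallIn κ(M) K M) : ∃ L, TypeP L ∧ (∀ g : G, cj g M ≠ L) ∧ (∀ (p : ℕ) (X : Subgroup G), p.Prime → PElem p 1 K X → UniqMax 𝐂(X) L) ∧ (IsHallIn κ(L) (Kstar M K) L ∧ IsHallIn σ(M) (Kstar M K) L ∧ Kstar L (Kstar M K) = K ∧ κ(M) = tau1 M) ∧ (IsCyclic ↥(K ⊔ Kstar M K) ∧ M ⊓ L = K ⊔ Kstar M K ∧ (∀ x ∈ K, x ≠ 1 → M ⊓ 𝐂[x] = K ⊔ Kstar M K) ∧ (∀ y ∈ Kstar M K, y ≠ 1 → L ⊓ 𝐂[y] = K ⊔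 Kstar M K) ∧ ∀ x ∈ K, x ≠ 1 → ∀ y ∈ Kstar M K, y ≠ 1 → 𝐂[x * y] = K ⊔ Kstar M K) ∧ (NormedTI (cycTIset K (Kstar M K)) ⊤ (K ⊔ Kstar M K) ∧ (∀ g : G, g ∉ M → Disjoint (cycTIset K (Kstar M K)) (cj g M : Set G)) ∧ Nat.card G < 2 * (classSupport (cycTIset K (Kstar M K)) ⊤).ncard) ∧ ((TypeP2 M ∧ (#|K|).Prime) ∨ (TypeP2 L ∧ (#|Kstar M K|).Prime)) ∧ (∀ H, TypeP H → (∃ g : G, cj g M = H) ∨ ∃ g : G, cj g L = H) ∧ IsSdp (der M) K M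
-- 14.8 
theorem P1type_trans {M H : Subgroup G} (hM : TypeP1 M) (hH : TypeP1 H) : ∃ g : G, cj g M = H
-- 14.9 (1) 
theorem mFT_partition1 (h : ∀ M : Subgroup G, ¬ TypeP M) {g : G} (hg : g ≠ 1) : ∃ M, IsCoatom M ∧ g ∈ classSupport (sigmaSupport M) ⊤
-- 14.9 (2) 
theorem mFT_partition2 {M K : Subgroup G} (hM : TypeP M) (hK : IsHallIn κ(M) K M) : (∀ g : G, g ≠ 1 → g ∈ classSupport (cycTIset K (Kstar M K)) ⊤ ∨ ∃ L, IsCoatom L ∧ g ∈ classSupport (sigmaSupport L) ⊤) ∧ ∀ L, IsCoatom L → Disjoint (classSupport (cycTIset K (Kstar M K)) ⊤) (classSupport (sigmaSupport L) ⊤)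
-- 14.10 
theorem ell_sigma_leq_2 (x : G) : ell x ≤ 2
-- 14.11 
theorem primes_non_Fitting_Ftype {q : ℕ} [Fact q.Prime] {M E Q : Subgroup G} (hM : TypeF M) (hE : IsHallIn (σ(M))ᶜ E M) (hQ : PElem q 1 E Q) (hn : ¬ Q ≤ Fit E) : ∃ L, IsCoatom L ∧ ((q ∈ tau2 L ∧ UniqMax 𝐂(Q) L) ∨ (q ∈ κ(L) ∧ TypeP1 L))
-- 14.12 
theorem P2type_signalizer {r : ℕ} [Fact r.Prime] {M L U K R H : Subgroup G} (hM : TypeP2 M) (h : KappaCompl M U K) (hL : IsCoatom L) (hKL : 𝐂(K) ≤ L) (hR : IsSylowIn r R U) (hH : IsCoatom H) (hN : 𝐍(R) ≤ H) : TypeF H ∧ U ≤ Msigma H ∧ U ⊔ K = M ⊓ H ∧ ¬ H ⊓ 𝐍(U) ≤ M ∧ K ≤ Fit (H ⊓ L) ∧ IsHallIn (σ(H))ᶜ (H ⊓ L) H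
-- 14.13 (a) 
theorem non_disjoint_signalizer_Frobenius {M : Subgroup G} {x : G} (hx : ell x = 1) (h : 1 < nSigmaMax x) (hM : SigmaMax x M) (hn : ¬ IsPiGroup (σ(sigBase x))ᶜ M) : TypeF M ∧ IsPiGroup (tau2 M)ᶜ M ∧ ∃ E, IsFrob (Msigma M) E M ∧ IsCyclic E
-/
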