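import Cfsg.Agent.FT.D14
import Cfsg.Agent.FT.P15a
import Cfsg.Agent.FT.P15b
import Cfsg.Agent.FT.P15c

/- LINKED interface; the statements, proved in the imported files:

variable {G : Type u} [Group G] [Finite G] [MinCE G]
theorem Fcore_sub_Msigma {M : Subgroup G} (hM : IsCoatom M) : Fcore M ≤ Msigma M
theorem Fcore_eq_Msigma {M : Subgroup G} (hM : IsCoatom M) : Fcore M = Msigma M ↔ Group.IsNilpotent (Msigma M)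
-- 15.1 
theorem kappa_structure {M U K : Subgroup G} (hM : IsCoatom M) (h : KappaCompl M U K) : (IsSdp (Msigma M) U (Msigma M ⊔ U) ∧ IsSdp (Msigma M ⊔ U) K M ∧ IsCyclic K ∧ der (der M) ≤ Msigma M) ∧ (K ≠ ⊥ → IsSdp (Msigma M) U (der M) ∧ IsMulCommutative U) ∧ (∀ X : Subgroup G, X ≤ U → X ≠ ⊥ → Msigma M ⊓ 𝐂(X) ≠ ⊥ → UniqMax 𝐂(X) M ∧ IsCyclic X ∧ IsPiGroup (tau2 M) X) ∧ (∃ A0, A0 ⊴ U ⊔ K ∧ A0 ≤ U ∧ IsMulCommutative A0 ∧ ∀ x ∈ Msigma M, x ≠ 1 → U ⊓ 𝐂[x] ≤ A0) ∧ (U ≠ ⊥ → ∃ U0, U0 ≤ U ∧ Monoid.exponent U0 = Monoid.exponent U ∧ IsFrob (Msigma M) U0 (Msigma M ⊔ U0))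
-- 15.2, first part 
theorem Fcore_neq1 {M : Subgroup G} (hM : IsCoatom M) : Fcore M ≠ ⊥
-- 15.2, second part (`p = |K|`, `q = |K^*|`, `Q = O_q(M)`, `Q₀ = C_Q(D)`) 
theorem Fcore_structure {q : ℕ} {M K D Q Q0 : Subgroup G} (hM : IsCoatom M) (hK : IsHallIn κ(M) K M) (hne : Fcore M ≠ Msigma M) (hq : q = #|Kstar M K|) (hQ : Q = Opi {q} M) (hD : IsHallIn {q}ᶜ D (Msigma M)) (hQ0 : Q0 = Q ⊓ 𝐂(D)) : (TypeP1 M ∧ IsSdp (Msigma M) K M ∧ Msigma M = der M) ∧ ((#|K|).Prime ∧ q.Prime ∧ q ∈ π(Fcore M) ∧ q ∈ β(M)) ∧ (IsSylowIn q Q M ∧ Group.IsNilpotent D ∧ Q0 ⊴ M) ∧ (MinNormal (Q ⁒ Q0) (M ⁒ Q0) ∧ IsElementaryAbelian q (Q ⁒ Q0) ∧ #|Q ⁒ Q0| = q ^ #|K|) ∧ der (der M) ≤ Fit M ∧ Q ⊔ (M ⊓ 𝐂(Q)) = Fit M ∧ M ⊓ cmod Q0 Q = Fit M ∧ Msigma M ⊓ cmod Q0 (Kstar M K) = Fit M ∧ Fit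 M < Msigma M
-- 15.3 (a) 
theorem cent_Hall_sigma_sdprod {ρ : Set ℕ} {M H : Subgroup G} (hM : IsCoatom M) (hH : IsHallIn ρ H (Msigma M)) (hH1 : H ≠ ⊥) : ∃ X, IsSdp (Msigma M ⊓ 𝐂(H)) X (M ⊓ 𝐂(H)) ∧ IsCyclic X ∧ IsPiGroup (tau2 M) X
-- 15.3 (b) 
theorem sigma_Hall_tame {ρ : Set ℕ} {M H : Subgroup G} {x a : G} (hM : IsCoatom M) (hH : IsHallIn ρ H (Msigma M)) (hx : x ∈ H) (ha : a * x * a⁻¹ ∈ H) : ∃ b ∈ M ⊓ 𝐍(H), a * x * a⁻¹ = b * x * b⁻¹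
-- 15.4 
theorem nilpotent_Hall_sigma {H : Subgroup G} (hn : Group.IsNilpotent H) (hH : IsHall H ⊤) (hH1 : H ≠ ⊥) : ∃ M, IsCoatom M ∧ H ≤ Msigma M
-- 15.5 
theorem Fitting_structure {M : Subgroup G} (hM : IsCoatom M) : (IsCyclic (Opi (σ(M))ᶜ (Fit M)) ∧ IsPiGroup (tau2 M) (Opi (σ(M))ᶜ (Fit M))) ∧ (der (der M) ≤ Fit M ∧ Fcore M ⊔ (M ⊓ 𝐂(Fcore M)) = Fit M ∧ IsDp (Fit (Msigma M)) (Opi (σ(M))ᶜ (Fit M)) (Fit M)) ∧ (Fcore M ≤ der M ∧ Group.IsNilpotent (der M ⁒ Fcore M)) ∧ (TypeP M → Fit M ≤ der M)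
-- 15.6 
theorem Ptype_cyclics {M K : Subgroup G} (hM : TypeP M) (hK : IsHallIn κ(M) K M) : Kstar M K ≠ ⊥ ∧ IsCyclic (Kstar M K) ∧ Kstar M K ≤ der (der M) ∧ Kstar M K ≤ Fcore M ∧ ¬ IsCyclic (Fcore M)
-- 15.7 
theorem nonTI_Fitting_structure {M : Subgroup G} {g : G} (hM : IsCoatom M) (hg : g ∉ M) (hX : Fit M ⊓ cj g (Fit M) ≠ ⊥) : ((TypeF M ∨ TypeP1 M) ∧ Fcore M = Msigma M) ∧ (Fit M ⊓ cj g (Fit M) ≤ Fcore M ∧ IsCyclic ↥(Fit M ⊓ cj g (Fit M))) ∧ (der M ≤ Fit M ∧ IsDp (Msigma M) (Opi (σ(M))ᶜ (Fit M)) (Fit M)) ∧ (∀ E E1 E2 E3, SigmaCompl M E E1 E2 E3 → E3 = ⊥ ∧ IsSdp E2 E1 E) ∧ ((TypeF M ∧ IsMulCommutative (Fcore M) ∧ rank (Fcore M) = 2) ∨ ∃ p ∈ π(Fcore M), ¬ IsMulCommutative (Opi {p} (Fcore M)) ∧ IsCyclic (Opi {p}ᶜ (Fcore M)) ∧ ((∀ q ∈ π(Fcore M), Monoid.exponent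 (M ⁒ Fcore M) ∣ q - 1) ∨ (#|Opi {p} (Fcore M)| = p ^ 3 ∧ TypeP1 M ∧ (Fcore M).relIndex M ∣ p + 1)))
theorem nonTI_Fitting_facts {M : Subgroup G} (hM : IsCoatom M) (h : ¬ NormedTI (sharp (Fit M : Set G)) ⊤ M) : (TypeF M ∨ TypeP1 M) ∧ Fcore M = Msigma M ∧ der M ≤ Fit M
-- 15.8 
theorem tau2_P2type_signalizer {r : ℕ} [Fact r.Prime] {M L U K R H : Subgroup G} (hM : TypeP2 M) (h : KappaCompl M U K) (hL : IsCoatom L) (hKL : 𝐂(K) ≤ L) (hR : IsSylowIn r R U) (hH : IsCoatom H) (hN : 𝐍(R) ≤ H) (h2 : ¬ IsPiGroup (tau2 H)ᶜ H) : (#|K|).Prime ∧ tau2 H = {#|K|} ∧ IsPiGroup (tau2 M)ᶜ M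
-- 15.9 (a), (b) 
theorem nonFtype_signalizer_base {M : Subgroup G} {x : G} (hM : IsCoatom M) (hx : x ∈ Msigma M) (hx1 : x ≠ 1) (hC : ¬ 𝐂[x] ≤ M) (hN : ¬ TypeF (sigBase x)) : TypeF M ∧ TypeP2 (sigBase x) ∧ ∃ E, IsFrob (Msigma M) E M ∧ IsCyclic E
-/
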