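import Cfsg.Agent.FT.D14
import Cfsg.Agent.FT.P16a
import Cfsg.Agent.FT.P16b

/- LINKED interface; the statements, proved in the imported files:

variable {G : Type u} [Group G] [Finite G] [MinCE G]
-- ### elementary facts 
theorem FTtype_range {M : Subgroup G} (hM : IsCoatom M) : 0 < FTtype M ∧ FTtype M ≤ 5
theorem FTcore_type_le2 {M : Subgroup G} (hM : IsCoatom M) (h : FTtype M ≤ 2) : FTcore M = Fcore M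
theorem FTcore_type_gt2 {M : Subgroup G} (h : 2 < FTtype M) : FTcore M = der M
theorem FTsupp1J {M : Subgroup G} {x : G} (z : G) : z * x * z⁻¹ ∈ FTsupp1 (cj z M) ↔ x ∈ FTsupp1 M
theorem FTsuppJ {M : Subgroup G} {x : G} (z : G) : z * x * z⁻¹ ∈ FTsupp (cj z M) ↔ x ∈ FTsupp M
theorem FTsupp0J {M : Subgroup G} {x : G} (z : G) : z * x * z⁻¹ ∈ FTsupp0 (cj z M) ↔ x ∈ FTsupp0 M
theorem FTsupp1_norm {M : Subgroup G} {x z : G} (hz : z ∈ M) (hx : x ∈ FTsupp1 M) : z * x * z⁻¹ ∈ FTsupp1 M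
theorem FTsupp_norm {M : Subgroup G} {x z : G} (hz : z ∈ M) (hx : x ∈ FTsupp M) : z * x * z⁻¹ ∈ FTsupp M
theorem FTsupp0_norm {M : Subgroup G} {x z : G} (hz : z ∈ M) (hx : x ∈ FTsupp0 M) : z * x * z⁻¹ ∈ FTsupp0 M
theorem FTsupp_sub0 (M : Subgroup G) : FTsupp M ⊆ FTsupp0 M
theorem FTsupp0_sub (M : Subgroup G) : FTsupp0 M ⊆ sharp (M : Set G)
theorem FTsupp_sub_FTder (M : Subgroup G) : FTsupp M ⊆ sharp (FTder M : Set G)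
theorem FTtype_Fmax {M : Subgroup G} (hM : IsCoatom M) : TypeF M ↔ FTtype M = 1
theorem FTtype_Pmax {M : Subgroup G} (hM : IsCoatom M) : TypeP M ↔ FTtype M ≠ 1
theorem FTtype_P1max {M : Subgroup G} (hM : IsCoatom M) : TypeP1 M ↔ 2 < FTtype M
theorem FTtype_P2max {M : Subgroup G} (hM : IsCoatom M) : TypeP2 M ↔ FTtype M = 2
theorem def_FTcore {M : Subgroup G} (hM : IsCoatom M) : FTcore M = Msigma M
theorem FTcore_sub_der1 {M : Subgroup G} (hM : IsCoatom M) : FTcore M ≤ der M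
theorem Fcore_sub_FTcore {M : Subgroup G} (hM : IsCoatom M) : Fcore M ≤ FTcore M
theorem Fcore_eq_FTcore {M : Subgroup G} (hM : IsCoatom M) : Fcore M = FTcore M ↔ FTtype M = 1 ∨ FTtype M = 2 ∨ FTtype M = 5
theorem Fcore_sub_FTsupp1 {M : Subgroup G} (hM : IsCoatom M) : sharp (Fcore M : Set G) ⊆ FTsupp1 M
theorem FTsupp1_sub {M : Subgroup G} (hM : IsCoatom M) : FTsupp1 M ⊆ FTsupp M
theorem Fitting_sub_FTsupp {M : Subgroup G} (hM : IsCoatom M) : sharp (Fit M : Set G) ⊆ FTsupp M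
theorem FTsupp_eq1 {M : Subgroup G} (hM : IsCoatom M) (h : 2 < FTtype M) : FTsupp M = FTsupp1 M
-- ### the summary theorems 
-- Theorem A (8) 
theorem BGsummaryA {M U K : Subgroup G} (hM : IsCoatom M) (h : KappaCompl M U K) (hne : Fcore M ≠ Msigma M) : U = ⊥ ∧ NormedTI (sharp (Fit M : Set G)) ⊤ M ∧ (#|K|).Prime
-- Theorem B 
theorem BGsummaryB {M U K : Subgroup G} (hM : IsCoatom M) (h : KappaCompl M U K) : (∀ (p : ℕ) (S : Subgroup G), p.Prime → IsSylowIn p S U → IsMulCommutative S ∧ rank S ≤ 2) ∧ (∀ X : Subgroup G, X ≤ U → X ≠ ⊥ → Msigma M ⊓ 𝐂(X) ≠ ⊥ → UniqMax 𝐂(X) M) ∧ (FTsupp M \ FTsupp1 M = ∅ ∨ NormedTI (FTsupp M \ FTsupp1 M) ⊤ M)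
-- Theorem C (the parts that are not in 14.7, 15.1, 15.6) 
theorem BGsummaryC {M U K : Subgroup G} (hM : IsCoatom M) (h : KappaCompl M U K) (hK : K ≠ ⊥) : ¬ 𝐍(U) ≤ M ∧ (NormedTI (FTsupp0 M \ FTsupp M) ⊤ M ∧ FTsupp0 M \ FTsupp M = classSupport (cycTIset K (Kstar M K)) M) ∧ (U ≠ ⊥ → (#|K|).Prime ∧ NormedTI (sharp (Fit M : Set G)) ⊤ M) ∧ (U = ⊥ → (#|Kstar M K|).Prime)
-- Theorem D 
theorem BGsummaryD {M : Subgroup G} (hM : IsCoatom M) : (∀ x ∈ Msigma M, ∀ g : G, g * x * g⁻¹ ∈ Msigma M → ∃ m ∈ M, g * x * g⁻¹ = m * x * m⁻¹) ∧ (∀ g : G, g ∉ M → Msigma M ⊓ cj g M = Msigma M ⊓ cj g (Msigma M) ∧ IsCyclic ↥(Msigma M ⊓ cj g M)) ∧ (∀ x ∈ Msigma M, x ≠ 1 → IsHall (M ⊓ 𝐂[x]) 𝐂[x] ∧ IsSdp (sigR x) (M ⊓ 𝐂[x]) 𝐂[x]) ∧ ∀ x ∈ Msigma M, x ≠ 1 → ¬ 𝐂[x] ≤ M → (UniqMax 𝐂[x] (sigBase x) ∧ Fcore (sigBase x) = Msigma (sigBase x))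 ∧ (x ∈ FTsupp (sigBase x) \ FTsupp1 (sigBase x) ∧ IsSdp (Fcore (sigBase x)) (M ⊓ sigBase x) (sigBase x)) ∧ (TypeF (sigBase x) ∨ TypeP2 (sigBase x)) ∧ (TypeP2 (sigBase x) → TypeF M ∧ (∃ E, IsFrob (Msigma M) E M ∧ IsCyclic E) ∧ ¬ NormedTI (sharp (Fcore M : Set G)) ⊤ M)
theorem typePfacts {M U W1 W2 : Subgroup G} (hM : IsCoatom M) (h : OfTypeP M U W1 W2) : TypeP M ∧ IsHallIn κ(M) W1 M ∧ Kstar M W1 = W2 ∧ (TypeP1 M ↔ U = ⊥ ∨ 𝐍(U) ≤ M) ∧ (Fcore M = Msigma M ↔ U = ⊥ ∨ ¬ 𝐍(U) ≤ M)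
-- a maximal subgroup of type `𝓟` is of type P in the sense of Peterfalvi (8.4) 
theorem Ptype_ofTypeP {M K : Subgroup G} (hM : TypeP M) (hK : IsHallIn κ(M) K M) : ∃ U, OfTypeP M U K (Kstar M K)
-- 16.1 
theorem FTtype1P {M : Subgroup G} (hM : IsCoatom M) : FTtype M = 1 ↔ ∃ U, OfTypeI M U
-- 16.1 
theorem FTtype2P {M U W1 W2 : Subgroup G} (hM : IsCoatom M) (h : OfTypeP M U W1 W2) : FTtype M = 2 ↔ OfTypeII M U W1 W2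
-- 16.1 
theorem FTtype3P {M U W1 W2 : Subgroup G} (hM : IsCoatom M) (h : OfTypeP M U W1 W2) : FTtype M = 3 ↔ OfTypeIII M U W1 W2
-- 16.1 
theorem FTtype4P {M U W1 W2 : Subgroup G} (hM : IsCoatom M) (h : OfTypeP M U W1 W2) : FTtype M = 4 ↔ OfTypeIV M U W1 W2
-- 16.1 
theorem FTtype5P {M U W1 W2 : Subgroup G} (hM : IsCoatom M) (h : OfTypeP M U W1 W2) : (FTtype M = 5 ↔ U = ⊥) ∧ (U = ⊥ → OfTypeV M W1 W2)
theorem FTsupp0_type1 {M : Subgroup G} (h : FTtype M = 1) : FTsupp0 M = FTsupp M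
theorem FTsupp0_typeP {M U W1 W2 : Subgroup G} (hM : IsCoatom M) (h : OfTypeP M U W1 W2) : FTsupp0 M \ FTsupp M = classSupport (cycTIset W1 W2) M
-- Theorem II 
theorem BGsummaryII {M : Subgroup G} {X : Set G} (hM : IsCoatom M) (hX : X = FTsupp M ∨ X = FTsupp0 M) : (∀ x ∈ X, ¬ 𝐂[x] ≤ M → x ∈ FTsupp1 M) ∧ (∀ x ∈ X, ∀ a : G, a * x * a⁻¹ ∈ X → ∃ b ∈ M, a * x * a⁻¹ = b * x * b⁻¹) ∧ ∀ x ∈ X, ¬ 𝐂[x] ≤ M → UniqMax 𝐂[x] (sigBase x) ∧ (IsSdp (Fcore (sigBase x)) (M ⊓ sigBase x) (sigBase x) ∧ IsSdp (Fcore (sigBase x) ⊓ 𝐂[x]) (M ⊓ 𝐂[x]) 𝐂[x]) ∧ (∀ y ∈ X, (#|Fcore (sigBase x)|).Coprime #|M ⊓ 𝐂[y]|) ∧ x ∈ FTsupp (sigBase x) \ FTsupp1 (sigBase x) ∧ (FTtype (sigBase x) = 1 ∨ FTtype (sigBase x) = 2) ∧ (FTtype (sigBase x) = 2 → (∃ E, IsFrob (Fcore M) E M ∧ IsCyclic E) ∧ ¬ NormedTI (sharp (Fcore M : Set G)) ⊤ M)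
-/
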