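import Cfsg.Agent.FT.CF4
import Cfsg.Agent.FT.Basic
import Cfsg.Agent.FT.PP02a
import Cfsg.Agent.FT.PP02b

/- LINKED interface; the statements, proved in the imported files:

variable {Γ : Type u} [Group Γ] [Finite Γ] {G L : Subgroup Γ} {A : Set Γ} {H : Γ → Subgroup Γ}
-- 2.4 (a) 
theorem DadeJ (h : DadeHyp G L A H) {a x : Γ} (ha : a ∈ A) (hx : x ∈ L) : H (x * a * x⁻¹) = cj x (H a)
theorem Dade_support1_id (h : DadeHyp G L A H) {a x : Γ} (ha : a ∈ A) (hx : x ∈ L) : dadeSupp1 G H (x * a * x⁻¹) = dadeSupp1 G H a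
-- 2.4 (b) 
theorem Dade_support1_TI (h : DadeHyp G L A H) {a b g : Γ} (ha : a ∈ A) (hb : b ∈ A) (h1 : g ∈ dadeSupp1 G H a) (h2 : g ∈ dadeSupp1 G H b) : ∃ x ∈ L, b = x * a * x⁻¹
-- 2.4 (c) 
theorem Dade_cover_TI (h : DadeHyp G L A H) {a : Γ} (ha : a ∈ A) : NormedTI {y | ∃ k ∈ H a, y = k * a} G (G ⊓ 𝐂[a])
theorem Dade_support_sub (h : DadeHyp G L A H) : dadeSupp G A H ⊆ sharp (G : Set Γ)
theorem Dade_support_conj {g x : Γ} (hg : g ∈ G) (hx : x ∈ dadeSupp G A H) : g * x * g⁻¹ ∈ dadeSupp G A H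
theorem sub_Dade_support {a : Γ} (ha : a ∈ A) : a ∈ dadeSupp G A H
-- the number of elements of `A^τ`, and sums over `A^τ` 
theorem sum_Dade_support (h : DadeHyp G L A H) {f : Γ → ℂ} (hf : IsCF G f) : ((#|G| : ℕ) : ℂ)⁻¹ * ∑ᶠ g ∈ dadeSupp G A H, f g = ((#|L| : ℕ) : ℂ)⁻¹ * ∑ᶠ a ∈ A, invDade A H f a
theorem DadeE (h : DadeHyp G L A H) {α : Γ → ℂ} (hα : IsCF L α) {a g : Γ} (ha : a ∈ A) (hg : g ∈ dadeSupp1 G H a) : dade G A H α g = α a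
theorem Dade_id (h : DadeHyp G L A H) {α : Γ → ℂ} (hα : IsCF L α) {a : Γ} (ha : a ∈ A) : dade G A H α a = α a
theorem Dade_cfun (h : DadeHyp G L A H) {α : Γ → ℂ} (hα : IsCF L α) : IsCFOn G (dadeSupp G A H) (dade G A H α)
theorem Dade1 (h : DadeHyp G L A H) (α : Γ → ℂ) : dade G A H α 1 = 0
theorem Dade_aut (σ : ℂ →+* ℂ) (α : Γ → ℂ) : dade G A H (cfAut σ α) = cfAut σ (dade G A H α)
theorem Dade_conjC (α : Γ → ℂ) : dade G A H (star α) = star (dade G A H α)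
-- 2.7 
theorem invDade_reciprocity (h : DadeHyp G L A H) {α χ : Γ → ℂ} (hα : IsCFOn L A α) (hχ : IsCF G χ) : ⟪dade G A H α, χ⟫_G = ⟪α, invDade A H χ⟫_L
-- 2.7, second part 
theorem Dade_reciprocity (h : DadeHyp G L A H) {α χ : Γ → ℂ} (hα : IsCFOn L A α) (hχ : IsCF G χ) (hc : ∀ a ∈ A, ∀ x ∈ H a, χ (x * a) = χ a) : ⟪dade G A H α, χ⟫_G = ⟪α, χ⟫_L
theorem Dade_dot_cf1 (h : DadeHyp G L A H) {α : Γ → ℂ} (hα : IsCFOn L A α) : ⟪dade G A H α, cf1 G⟫_G = ⟪α, cf1 L⟫_L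
-- 2.6 (a) 
theorem Dade_isometry (h : DadeHyp G L A H) {α β : Γ → ℂ} (hα : IsCFOn L A α) (hβ : IsCFOn L A β) : ⟪dade G A H α, dade G A H β⟫_G = ⟪α, β⟫_L
-- 2.6 (b) 
theorem Dade_vchar (h : DadeHyp G L A H) {α : Γ → ℂ} (hα : α ∈ virt L) (hA : ∀ x, x ∉ A → α x = 0) : dade G A H α ∈ virt G
-- 2.11 
theorem restr_Dade_hyp (h : DadeHyp G L A H) {A1 : Set Γ} (h1 : A1 ⊆ A) (h2 : ∀ g ∈ L, ∀ a ∈ A1, g * a * g⁻¹ ∈ A1) : DadeHyp G L A1 H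
-- 2.11 
theorem restr_DadeE (h : DadeHyp G L A H) {A1 : Set Γ} (h1 : A1 ⊆ A) {α : Γ → ℂ} (hα : IsCFOn L A1 α) : dade G A1 H α = dade G A H α
theorem Dade_cfun_restr (h : DadeHyp G L A H) {A1 : Set Γ} (h1 : A1 ⊆ A) {α : Γ → ℂ} (hα : IsCFOn L A1 α) : IsCFOn G (dadeSupp G A1 H) (dade G A H α)
-- 2.3 
theorem normedTI_Dade (h : NormedTI A G L) (hA : A ⊆ G) (h1 : (1 : Γ) ∉ A) : DadeHyp G L A fun _ => ⊥
-- the signalizer is trivial on a TI-subset 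
theorem Dade_sign_triv (h : DadeHyp G L A H) {a : Γ} (ha : a ∈ A) (hc : G ⊓ 𝐂[a] ≤ L) : H a = ⊥
-- the Dade isometry is induction on a TI-subset 
theorem Dade_Ind (h : DadeHyp G L A H) {A1 : Set Γ} (h1 : A1 ⊆ A) (hti : NormedTI A1 G L) {α : Γ → ℂ} (hα : IsCFOn L A1 α) : dade G A H α = ind G L α
theorem dadeSupp_of_triv {A1 : Set Γ} (h : ∀ a ∈ A1, H a = ⊥) : dadeSupp G A1 H = classSupport A1 G
-/
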