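import Cfsg.Agent.FT.CF11

/-! Peterfalvi §1 and the class function API are proved directly in `CF1` … `CF11`. -/
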