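import Cfsg.Agent.FT.CF4
import Cfsg.Agent.FT.Basic
import Cfsg.Agent.FT.PP04a
import Cfsg.Agent.FT.PP04b

/- LINKED interface; the statements, proved in the imported files:

variable {Γ : Type u} [Group Γ] [Finite Γ] {G L K H W1 W2 : Subgroup Γ} {A A0 : Set Γ} {R : Γ → Subgroup Γ}
-- 4.1 
theorem vchar_pairs_orthonormal {a b c d : Γ → ℂ} {r s : ℝ} (ha : IsDirr G a) (hb : IsDirr G b) (hc : IsDirr G c) (hd : IsDirr G d) (hab : ⟪a, b⟫_G = 0) (hcd : ⟪c, d⟫_G = 0) (hr : r ≠ 0) (hs : s ≠ 0) (h0 : ⟪a - b, (r : ℂ) • c - (s : ℂ) • d⟫_G = 0) (h1 : (a - b) 1 = 0) (h2 : ((r : ℂ) • c - (s : ℂ) • d) 1 = 0) : ⟪a, c⟫_G = 0 ∧ ⟪a, d⟫_G = 0 ∧ ⟪b, c⟫_G = 0 ∧ ⟪b, d⟫_G = 0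
-- ### 4.3 - 4.5 
-- 4.3 (a) 
theorem normedTI_prTIset (h : PrimeTIHyp L K W1 W2) : NormedTI (((W1 ⊔ W2 : Subgroup Γ) : Set Γ) \ W2) L (W1 ⊔ W2)
-- 4.3 (a) 
theorem prime_cycTIhyp (h : PrimeTIHyp L K W1 W2) : CycTIHyp L W1 W2
theorem prTI_coprime (h : PrimeTIHyp L K W1 W2) : (#|K|).Coprime #|W1| ∧ K.relIndex L = #|W1| ∧ K ⊴ L ∧ (W1 ⊔ W2) ⊓ K = W2
theorem prTIsign_cases (L W1 W2 : Subgroup Γ) (j : Γ → ℂ) : primeTIsign L W1 W2 j = 1 ∨ primeTIsign L W1 W2 j = -1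
theorem prTIirr_irr (h : PrimeTIHyp L K W1 W2) {i j : Γ → ℂ} (hi : IsIrr W1 i) (hj : IsIrr W2 j) : IsIrr L (primeTIirr L W1 W2 i j)
theorem prTIirr_inj (h : PrimeTIHyp L K W1 W2) {i j k l : Γ → ℂ} (hi : IsIrr W1 i) (hj : IsIrr W2 j) (hk : IsIrr W1 k) (hl : IsIrr W2 l) (e : primeTIirr L W1 W2 i j = primeTIirr L W1 W2 k l) : i = k ∧ j = l
-- 4.3 (b) 
theorem cycTIiso_prTIirr (h : PrimeTIHyp L K W1 W2) {i j : Γ → ℂ} (hi : IsIrr W1 i) (hj : IsIrr W2 j) : eta L W1 W2 i j = primeTIsign L W1 W2 j • primeTIirr L W1 W2 i j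
-- 4.3 (b) 
theorem cfInd_sub_prTIirr (h : PrimeTIHyp L K W1 W2) {i k j : Γ → ℂ} (hi : IsIrr W1 i) (hk : IsIrr W1 k) (hj : IsIrr W2 j) : ind L (W1 ⊔ W2) (cfDp W1 i j - cfDp W1 k j) = primeTIsign L W1 W2 j • (primeTIirr L W1 W2 i j - primeTIirr L W1 W2 k j)
-- 4.3 (c) 
theorem prTIirr_id (h : PrimeTIHyp L K W1 W2) {i j : Γ → ℂ} (hi : IsIrr W1 i) (hj : IsIrr W2 j) {x : Γ} (hx : x ∈ W1 ⊔ W2) (hx2 : x ∉ W2) : primeTIirr L W1 W2 i j x = (primeTIsign L W1 W2 j : ℂ) * cfDp W1 i j x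
-- 4.3 (c) 
theorem not_prTIirr_vanish (h : PrimeTIHyp L K W1 W2) {χ : Γ → ℂ} (hχ : IsIrr L χ) (hne : ∀ i j, IsIrr W1 i → IsIrr W2 j → χ ≠ primeTIirr L W1 W2 i j) {x : Γ} (hx : x ∈ W1 ⊔ W2) (hx2 : x ∉ W2) : χ x = 0
-- 4.3 (d) 
theorem prTIirr1_mod (h : PrimeTIHyp L K W1 W2) {i j : Γ → ℂ} (hi : IsIrr W1 i) (hj : IsIrr W2 j) : ∃ n : ℤ, primeTIirr L W1 W2 i j 1 = primeTIsign L W1 W2 j + n * (#|W1| : ℕ)
theorem prTIsign_aut (h : PrimeTIHyp L K W1 W2) (σ : ℂ →+* ℂ) {j : Γ → ℂ} (hj : IsIrr W2 j) : primeTIsign L W1 W2 (cfAut σ j) = primeTIsign L W1 W2 j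
theorem prTIirr_aut (h : PrimeTIHyp L K W1 W2) (σ : ℂ →+* ℂ) {i j : Γ → ℂ} (hi : IsIrr W1 i) (hj : IsIrr W2 j) : primeTIirr L W1 W2 (cfAut σ i) (cfAut σ j) = cfAut σ (primeTIirr L W1 W2 i j)
theorem prTIred_aut (h : PrimeTIHyp L K W1 W2) (σ : ℂ →+* ℂ) {j : Γ → ℂ} (hj : IsIrr W2 j) : primeTIred L W1 W2 (cfAut σ j) = cfAut σ (primeTIred L W1 W2 j)
theorem prTIsign_star (h : PrimeTIHyp L K W1 W2) {j : Γ → ℂ} (hj : IsIrr W2 j) : primeTIsign L W1 W2 (star j) = primeTIsign L W1 W2 j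
theorem prTIirr_star (h : PrimeTIHyp L K W1 W2) {i j : Γ → ℂ} (hi : IsIrr W1 i) (hj : IsIrr W2 j) : primeTIirr L W1 W2 (star i) (star j) = star (primeTIirr L W1 W2 i j)
theorem prTIred_star (h : PrimeTIHyp L K W1 W2) {j : Γ → ℂ} (hj : IsIrr W2 j) : primeTIred L W1 W2 (star j) = star (primeTIred L W1 W2 j)
theorem cfdot_prTIirr (h : PrimeTIHyp L K W1 W2) {i j k l : Γ → ℂ} (hi : IsIrr W1 i) (hj : IsIrr W2 j) (hk : IsIrr W1 k) (hl : IsIrr W2 l) : ⟪primeTIirr L W1 W2 i j, primeTIirr L W1 W2 k l⟫_L = if i = k ∧ j = l then 1 else 0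
theorem cfdot_prTIirr_red (h : PrimeTIHyp L K W1 W2) {i j k : Γ → ℂ} (hi : IsIrr W1 i) (hj : IsIrr W2 j) (hk : IsIrr W2 k) : ⟪primeTIirr L W1 W2 i j, primeTIred L W1 W2 k⟫_L = if j = k then 1 else 0
theorem cfdot_prTIred (h : PrimeTIHyp L K W1 W2) {j k : Γ → ℂ} (hj : IsIrr W2 j) (hk : IsIrr W2 k) : ⟪primeTIred L W1 W2 j, primeTIred L W1 W2 k⟫_L = if j = k then ((#|W1| : ℕ) : ℂ) else 0
theorem cfnorm_prTIred (h : PrimeTIHyp L K W1 W2) {j : Γ → ℂ} (hj : IsIrr W2 j) : ⟪primeTIred L W1 W2 j, primeTIred L W1 W2 j⟫_L = (#|W1| : ℕ)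
theorem prTIred_char (h : PrimeTIHyp L K W1 W2) {j : Γ → ℂ} (hj : IsIrr W2 j) : IsChar L (primeTIred L W1 W2 j)
theorem prTIred_inj (h : PrimeTIHyp L K W1 W2) {j k : Γ → ℂ} (hj : IsIrr W2 j) (hk : IsIrr W2 k) (e : primeTIred L W1 W2 j = primeTIred L W1 W2 k) : j = k
theorem prTIsign0 (h : PrimeTIHyp L K W1 W2) : primeTIsign L W1 W2 (cf1 W2) = 1
theorem prTIirr00 (h : PrimeTIHyp L K W1 W2) : primeTIirr L W1 W2 (cf1 W1) (cf1 W2) = cf1 L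
-- 4.4 
theorem prTIirr0P (h : PrimeTIHyp L K W1 W2) {χ : Γ → ℂ} (hχ : IsIrr L χ) : (∃ i, IsIrr W1 i ∧ χ = primeTIirr L W1 W2 i (cf1 W2)) ↔ K ≤ cfker L χ
theorem prTIirr0_linear (h : PrimeTIHyp L K W1 W2) {i : Γ → ℂ} (hi : IsIrr W1 i) : IsLin L (primeTIirr L W1 W2 i (cf1 W2))
theorem mul_prTIirr0 (h : PrimeTIHyp L K W1 W2) {i j : Γ → ℂ} (hi : IsIrr W1 i) (hj : IsIrr W2 j) : primeTIirr L W1 W2 i j = primeTIirr L W1 W2 i (cf1 W2) * primeTIirr L W1 W2 (cf1 W1) j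
theorem prTIres_irr (h : PrimeTIHyp L K W1 W2) {j : Γ → ℂ} (hj : IsIrr W2 j) : IsIrr K (primeTIres L K W1 W2 j)
-- 4.5 (a) 
theorem cfRes_prTIirr (h : PrimeTIHyp L K W1 W2) {i j : Γ → ℂ} (hi : IsIrr W1 i) (hj : IsIrr W2 j) : res K (primeTIirr L W1 W2 i j) = primeTIres L K W1 W2 j
-- 4.5 (a) 
theorem cfInd_prTIres (h : PrimeTIHyp L K W1 W2) {j : Γ → ℂ} (hj : IsIrr W2 j) : ind L K (primeTIres L K W1 W2 j) = primeTIred L W1 W2 j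
theorem prTIres_inj (h : PrimeTIHyp L K W1 W2) {j k : Γ → ℂ} (hj : IsIrr W2 j) (hk : IsIrr W2 k) (e : primeTIres L K W1 W2 j = primeTIres L K W1 W2 k) : j = k
theorem prTIres0 (h : PrimeTIHyp L K W1 W2) : primeTIres L K W1 W2 (cf1 W2) = cf1 K
theorem prTIred0 (h : PrimeTIHyp L K W1 W2) : primeTIred L W1 W2 (cf1 W2) = ind L K (cf1 K)
theorem prTIirr_1 (h : PrimeTIHyp L K W1 W2) {i j : Γ → ℂ} (hi : IsIrr W1 i) (hj : IsIrr W2 j) : primeTIirr L W1 W2 i j 1 = primeTIirr L W1 W2 (cf1 W1) j 1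
theorem prTIred_1 (h : PrimeTIHyp L K W1 W2) {j : Γ → ℂ} (hj : IsIrr W2 j) : primeTIred L W1 W2 j 1 = (#|W1| : ℕ) * primeTIirr L W1 W2 (cf1 W1) j 1
theorem prTIred_on (h : PrimeTIHyp L K W1 W2) {j : Γ → ℂ} (hj : IsIrr W2 j) : IsCFOn L K (primeTIred L W1 W2 j)
-- 4.5 (b) 
theorem prTIres_irr_cases (h : PrimeTIHyp L K W1 W2) {θ : Γ → ℂ} (hθ : IsIrr K θ) : (∃ j, IsIrr W2 j ∧ θ = primeTIres L K W1 W2 j) ∨ (IsIrr L (ind L K θ) ∧ ∀ i j, IsIrr W1 i → IsIrr W2 j → ind L K θ ≠ primeTIirr L W1 W2 i j)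
theorem prTIred_not_irr (h : PrimeTIHyp L K W1 W2) {j : Γ → ℂ} (hj : IsIrr W2 j) : ¬ IsIrr L (primeTIred L W1 W2 j)
-- 4.5 (b) 
theorem prTIind_irr_cases (h : PrimeTIHyp L K W1 W2) {χ : Γ → ℂ} (hχ : IsIrr L χ) : (∃ i j, IsIrr W1 i ∧ IsIrr W2 j ∧ χ = primeTIirr L W1 W2 i j) ∨ ∃ θ, IsIrr K θ ∧ (∀ j, IsIrr W2 j → θ ≠ primeTIres L K W1 W2 j) ∧ χ = ind L K θ
theorem primeTIhyp_quotient (h : PrimeTIHyp L K W1 W2) {N : Subgroup Γ} (hN : N ⊴ L) (hNK : N ≤ K) (h2 : ¬ W2 ≤ N) : PrimeTIHyp (L ⁒ N) (K ⁒ N) (W1 ⁒ N) (W2 ⁒ N)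
-- the number of `j` with `N ≤ ker χ_j` 
theorem card_prTIres_ker (h : PrimeTIHyp L K W1 W2) {N : Subgroup Γ} (hN : N ⊴ L) (hNK : N ≤ K) : {j | IsIrr W2 j ∧ N ≤ cfker K (primeTIres L K W1 W2 j)}.ncard = N.relIndex W2
-- 4.7, third part 
theorem cfker_prTIres (h : PrimeTIHyp L K W1 W2) (hH : H ⊴ L) (h2 : W2 ≤ H) (hK : H ≤ K) {j : Γ → ℂ} (hj : IsIrr W2 j) (hj1 : j ≠ cf1 W2) : ¬ H ≤ cfker K (primeTIres L K W1 W2 j)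
-- ### 4.6 - 4.10 
-- 4.7 
theorem prDade_irr_on (h : PrimeDadeHyp G L K H W1 W2 A A0 R) {θ : Γ → ℂ} (hθ : IsIrr K θ) (hk : ¬ H ≤ cfker K θ) : IsCFOn K (insert 1 A) θ
-- 4.7 
theorem prDade_Ind_irr_on (h : PrimeDadeHyp G L K H W1 W2 A A0 R) {θ : Γ → ℂ} (hθ : IsIrr K θ) (hk : ¬ H ≤ cfker K θ) : IsCFOn L (insert 1 A) (ind L K θ)
-- 4.7 
theorem prDade_TIred_on (h : PrimeDadeHyp G L K H W1 W2 A A0 R) {j : Γ → ℂ} (hj : IsIrr W2 j) (hj1 : j ≠ cf1 W2) : IsCFOn L (insert 1 A) (primeTIred L W1 W2 j)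
theorem prDade_TIirr_on (h : PrimeDadeHyp G L K H W1 W2 A A0 R) {i j : Γ → ℂ} (hi : IsIrr W1 i) (hj : IsIrr W2 j) (hj1 : j ≠ cf1 W2) {x : Γ} (hx : x ∈ K) (hx1 : x ≠ 1) (hxA : x ∉ A) : primeTIirr L W1 W2 i j x = 0
-- 4.8 
theorem prDade_TIsign_eq (h : PrimeTIHyp L K W1 W2) {i j k : Γ → ℂ} (hi : IsIrr W1 i) (hj : IsIrr W2 j) (hk : IsIrr W2 k) (e : primeTIirr L W1 W2 i j 1 = primeTIirr L W1 W2 i k 1) : primeTIsign L W1 W2 j = primeTIsign L W1 W2 k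
-- 4.8 
theorem prDade_sub_TIirr_on (h : PrimeDadeHyp G L K H W1 W2 A A0 R) {i j k : Γ → ℂ} (hi : IsIrr W1 i) (hj : IsIrr W2 j) (hk : IsIrr W2 k) (hj1 : j ≠ cf1 W2) (hk1 : k ≠ cf1 W2) (e : primeTIirr L W1 W2 i j 1 = primeTIirr L W1 W2 i k 1) : IsCFOn L A0 (primeTIirr L W1 W2 i j - primeTIirr L W1 W2 i k)
-- 4.8 
theorem prDade_sub_TIirr (h : PrimeDadeHyp G L K H W1 W2 A A0 R) {i j k : Γ → ℂ} (hi : IsIrr W1 i) (hj : IsIrr W2 j) (hk : IsIrr W2 k) (hj1 : j ≠ cf1 W2) (hk1 : k ≠ cf1 W2) (e : primeTIirr L W1 W2 i j 1 = primeTIirr L W1 W2 i k 1) : dade G A0 R (primeTIirr L W1 W2 i j - primeTIirr L W1 W2 i k) = primeTIsign L W1 W2 j • (eta G W1 W2 i j - eta G W1 W2 i k)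
-- the Dade isometry on `V`: `α^τ` vanishes on `V` for `α ∈ CF(L, A)` and agrees with `α` on `V` for `α ∈ CF(L)` 
theorem prDade_cycTIset (h : PrimeDadeHyp G L K H W1 W2 A A0 R) {α : Γ → ℂ} (hα : IsCF L α) {x : Γ} (hx : x ∈ cycTIset W1 W2) : dade G A0 R α x = α x ∧ x ∉ K
-- a class function of `L` vanishing on `W \ W₂` vanishes outside `K` 
theorem prTI_vanish_off (h : PrimeTIHyp L K W1 W2) {x : Γ} (hx : x ∈ L) (hxK : x ∉ K) : ∃ g ∈ L, g * x * g⁻¹ ∈ W1 ⊔ W2 ∧ g * x * g⁻¹ ∉ W2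
-- 4.9 (b): the sums over the columns 
theorem prDade_sub_TIred (h : PrimeDadeHyp G L K H W1 W2 A A0 R) {j k : Γ → ℂ} (hj : IsIrr W2 j) (hk : IsIrr W2 k) (hj1 : j ≠ cf1 W2) (hk1 : k ≠ cf1 W2) (e : primeTIred L W1 W2 j 1 = primeTIred L W1 W2 k 1) : dade G A0 R (primeTIred L W1 W2 j - primeTIred L W1 W2 k) = primeTIsign L W1 W2 j • (∑ i ∈ irr W1, eta G W1 W2 i j - ∑ i ∈ irr W1, eta G W1 W2 i k)
-- 4.9 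
theorem uniform_prTIred_coherent (h : PrimeDadeHyp G L K H W1 W2 A A0 R) {k : Γ → ℂ} (hk : IsIrr W2 k) (hk1 : k ≠ cf1 W2) : ∃ ν : (Γ → ℂ) →ₗ[ℂ] (Γ → ℂ), (∀ j, IsIrr W2 j → ν (primeTIred L W1 W2 j) = primeTIsign L W1 W2 k • ∑ i ∈ irr W1, eta G W1 W2 i j) ∧ CoherentWith L G {φ | ∃ j, IsIrr W2 j ∧ j ≠ cf1 W2 ∧ primeTIred L W1 W2 j 1 = primeTIred L W1 W2 k 1 ∧ φ = primeTIred L W1 W2 j} (sharp (L : Set Γ)) (dade G A0 R) ν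
-- 4.10 
theorem prDade_sub2_TIirr (h : PrimeDadeHyp G L K H W1 W2 A A0 R) {i j : Γ → ℂ} (hi : IsIrr W1 i) (hj : IsIrr W2 j) : IsCFOn L A0 (primeTIsign L W1 W2 j • primeTIirr L W1 W2 i j - primeTIsign L W1 W2 j • primeTIirr L W1 W2 (cf1 W1) j - primeTIirr L W1 W2 i (cf1 W2) + cf1 L) ∧ dade G A0 R (primeTIsign L W1 W2 j • primeTIirr L W1 W2 i j - primeTIsign L W1 W2 j • primeTIirr L W1 W2 (cf1 W1) j - primeTIirr L W1 W2 i (cf1 W2) + cf1 L) = eta G W1 W2 i j - eta G W1 W2 (cf1 W1) j - eta G W1 W2 i (cf1 W2) + cf1 G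
-/
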