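import Cfsg.Agent.FT.CF4
import Cfsg.Agent.FT.Basic
import Cfsg.Agent.FT.PP05a
import Cfsg.Agent.FT.PP05b
import Cfsg.Agent.FT.PP05c

/- LINKED interface; the statements, proved in the imported files:

variable {Γ : Type u} [Group Γ] [Finite Γ] {G L K H M X Y W1 W2 : Subgroup Γ} {A A0 : Set Γ} {S S1 S2 : Set (Γ → ℂ)} {τ ν ν1 ν2 : (Γ → ℂ) →ₗ[ℂ] (Γ → ℂ)} {R : (Γ → ℂ) → Finset (Γ → ℂ)}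
-- ### sets of induced characters 
theorem mem_irrKerD {θ : Γ → ℂ} : θ ∈ irrKerD K X Y ↔ IsIrr K θ ∧ Y ≤ cfker K θ ∧ ¬ X ≤ cfker K θ
theorem mem_seqInd_iff {T : Finset (Γ → ℂ)} {φ : Γ → ℂ} : φ ∈ seqInd K L T ↔ ∃ θ ∈ T, ind L K θ = φ
theorem mem_seqIndD {φ : Γ → ℂ} : φ ∈ seqIndD K L X Y ↔ ∃ θ, IsIrr K θ ∧ Y ≤ cfker K θ ∧ ¬ X ≤ cfker K θ ∧ ind L K θ = φ
theorem mem_seqIndT {φ : Γ → ℂ} : φ ∈ seqIndT K L ↔ ∃ θ, IsIrr K θ ∧ ind L K θ = φ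
theorem seqIndD_subT (K L X Y : Subgroup Γ) : seqIndD K L X Y ⊆ seqIndT K L
theorem seqIndDS {X' Y' : Subgroup Γ} (hX : X ≤ X') (hY : Y' ≤ Y) : seqIndD K L X Y ⊆ seqIndD K L X' Y'
theorem Ind_mem_seqIndD (hK : K ⊴ L) (hX : L ≤ 𝐍(X)) (hY : L ≤ 𝐍(Y)) {θ : Γ → ℂ} (hθ : IsIrr K θ) : ind L K θ ∈ seqIndD K L X Y ↔ Y ≤ cfker K θ ∧ ¬ X ≤ cfker K θ
theorem mem_seqIndD_iff_ker (hK : K ⊴ L) (hX : X ≤ K) (hXL : L ≤ 𝐍(X)) (hY : Y ≤ K) (hYL : L ≤ 𝐍(Y)) {φ : Γ → ℂ} : φ ∈ seqIndD K L X Y ↔ φ ∈ seqIndT K L ∧ Y ≤ cfker L φ ∧ ¬ X ≤ cfker L φ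
theorem seqIndT_eq_insert (hK : K ⊴ L) : (seqIndT K L : Set (Γ → ℂ)) = insert (ind L K (cf1 K)) (seqIndD K L K ⊥ : Set (Γ → ℂ)) ∧ ind L K (cf1 K) ∉ seqIndD K L K ⊥
theorem seqInd_char (hK : K ≤ L) {φ : Γ → ℂ} (hφ : φ ∈ seqIndT K L) : IsChar L φ
theorem seqInd_on (hK : K ⊴ L) {φ : Γ → ℂ} (hφ : φ ∈ seqIndT K L) : IsCFOn L K φ
theorem seqInd_neq0 (hK : K ≤ L) {φ : Γ → ℂ} (hφ : φ ∈ seqIndT K L) : φ ≠ 0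
theorem seqInd1 (hK : K ≤ L) {φ : Γ → ℂ} (hφ : φ ∈ seqIndT K L) : ∃ n : ℕ, 0 < n ∧ φ 1 = (K.relIndex L * n : ℕ)
theorem seqInd_cfnorm (hK : K ⊴ L) {φ : Γ → ℂ} (hφ : φ ∈ seqIndT K L) : ∃ n : ℕ, 0 < n ∧ n ∣ K.relIndex L ∧ ⟪φ, φ⟫_L = n
theorem seqInd_ortho (hK : K ⊴ L) {φ ψ : Γ → ℂ} (hφ : φ ∈ seqIndT K L) (hψ : ψ ∈ seqIndT K L) (hne : φ ≠ ψ) : ⟪φ, ψ⟫_L = 0
theorem seqInd_orthogonal (hK : K ⊴ L) (hS : S ⊆ seqIndT K L) : PairwiseOrth L S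
theorem seqIndD_ortho_1 (hK : K ≤ L) (hX : X ≤ K) {φ : Γ → ℂ} (hφ : φ ∈ seqIndD K L X Y) : ⟪φ, cf1 L⟫_L = 0
theorem zcharD1_seqInd_on (hK : K ⊴ L) (hS : S ⊆ seqIndT K L) {α : Γ → ℂ} (hα : α ∈ zspanOn S (sharp (L : Set Γ))) : IsCFOn L (sharp (K : Set Γ)) α ∧ α ∈ virt L
theorem cfAut_seqIndT (σ : ℂ →+* ℂ) {φ : Γ → ℂ} (hφ : φ ∈ seqIndT K L) : cfAut σ φ ∈ seqIndT K L
theorem cfAut_seqIndD (σ : ℂ →+* ℂ) {φ : Γ → ℂ} (hφ : φ ∈ seqIndD K L X Y) : cfAut σ φ ∈ seqIndD K L X Y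
theorem star_seqIndD {φ : Γ → ℂ} (hφ : φ ∈ seqIndD K L X Y) : star φ ∈ seqIndD K L X Y
theorem conjClosed_seqIndD (K L X Y : Subgroup Γ) : ConjClosed (seqIndD K L X Y : Set (Γ → ℂ))
theorem seqInd_conjC_neq (ho : Odd #|L|) (hK : K ⊴ L) (hX : X ≤ K) {φ : Γ → ℂ} (hφ : φ ∈ seqIndD K L X Y) : star φ ≠ φ
theorem seqInd_conjC_ortho (ho : Odd #|L|) (hK : K ⊴ L) (hX : X ≤ K) {φ : Γ → ℂ} (hφ : φ ∈ seqIndD K L X Y) : ⟪φ, star φ⟫_L = 0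
theorem sum_irr_ker_square (hH : H ⊴ K) : ∑ θ ∈ irr K with H ≤ cfker K θ, θ 1 ^ 2 = (H.relIndex K : ℕ)
theorem sum_Iirr_kerD_square (hH : H ⊴ K) (hM : M ⊴ K) (hMH : M ≤ H) : ∑ θ ∈ irrKerD K H M, θ 1 ^ 2 = (H.relIndex K : ℕ) * ((M.relIndex H : ℕ) - 1)
-- sums over induced characters in terms of the inducing characters 
theorem sum_seqInd_scaled (hK : K ⊴ L) {T : Finset (Γ → ℂ)} (hT : T ⊆ irr K) (hc : ∀ θ ∈ T, ∀ g ∈ L, cfcj g θ ∈ T) : ∑ φ ∈ seqInd K L T, (φ 1 / ⟪φ, φ⟫_L) • φ = ((K.relIndex L : ℕ) : ℂ) • ∑ θ ∈ T, θ 1 • θ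
theorem sum_seqIndD_square (hK : K ⊴ L) (hH : H ⊴ L) (hM : M ⊴ L) (hMH : M ≤ H) (hHK : H ≤ K) : ∑ φ ∈ seqIndD K L H M, φ 1 ^ 2 / ⟪φ, φ⟫_L = (H.relIndex L : ℕ) * ((M.relIndex H : ℕ) - 1)
theorem sum_seqIndC1_apply (hK : K ⊴ L) {x : Γ} (hx : x ∈ K) (hx1 : x ≠ 1) : ∑ φ ∈ seqIndD K L K ⊥, φ 1 / ⟪φ, φ⟫_L * φ x = -(K.relIndex L : ℕ)
theorem seqIndD_nonempty (hH : H ≤ K) (hM : M ⊴ K) (hMH : ¬ H ≤ M) (L : Subgroup Γ) : (seqIndD K L H M).Nonempty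
theorem exists_linInd (hH : H ≤ L) (hM : M ⊴ H) (hne : M ≠ H) (hs : Group.IsSolvable H) : ∃ φ ∈ seqIndD H L H M, φ 1 = (H.relIndex L : ℕ)
theorem seqInd_Dade_iso {D : Γ → Subgroup Γ} (h : DadeHyp G L A D) (hK : K ⊴ L) (hA : sharp (K : Set Γ) ⊆ A) (hS : S ⊆ seqIndT K L) : IsoTo L G (zspanOn S (sharp (L : Set Γ))) (dade G A D)
-- ### linear algebra 
-- linear maps with prescribed values on a pairwise orthogonal set 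
theorem exists_linear_of_orth (hS : PairwiseOrth L S) (hcf : ∀ φ ∈ S, IsCF L φ) (f : (Γ → ℂ) → (Γ → ℂ)) : ∃ ν : (Γ → ℂ) →ₗ[ℂ] (Γ → ℂ), ∀ φ ∈ S, ν φ = f φ
theorem isoTo_zspan (h1 : ∀ φ ∈ S, ∀ ψ ∈ S, ⟪ν φ, ν ψ⟫_G = ⟪φ, ψ⟫_L) (h2 : ∀ φ ∈ S, ν φ ∈ virt G) : IsoTo L G (zspan S) ν
-- expansion of the projection on a pairwise orthogonal set 
theorem zspan_expand {T : Finset (Γ → ℂ)} (hT : PairwiseOrth L T) (hcf : ∀ φ ∈ T, IsCF L φ) {α : Γ → ℂ} (hα : α ∈ zspan (T : Set (Γ → ℂ))) : ∃ a : (Γ → ℂ) → ℤ, α = ∑ φ ∈ T, a φ • φ ∧ ∀ φ ∈ T, ⟪α, φ⟫_L = a φ * ⟪φ, φ⟫_L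
-- orthogonal projection on an orthonormal set of virtual characters 
theorem orthogonal_split {T : Finset (Γ → ℂ)} (hT : Orthonormal' G T) (hv : ∀ φ ∈ T, φ ∈ virt G) {β : Γ → ℂ} (hβ : β ∈ virt G) : ∃ a : (Γ → ℂ) → ℤ, (∀ φ ∈ T, ⟪β, φ⟫_G = a φ) ∧ (∀ φ ∈ T, ⟪β - ∑ ψ ∈ T, a ψ • ψ, φ⟫_G = 0) ∧ cfnorm G β = ((∑ ψ ∈ T, a ψ ^ 2 : ℤ) : ℝ) + cfnorm G (β - ∑ ψ ∈ T, a ψ • ψ)
-- ### coherence 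
theorem subset_coherent_with (h : S1 ⊆ S2) (hc : CoherentWith L G S2 A τ ν) : CoherentWith L G S1 A τ ν
theorem subset_coherent (h : S1 ⊆ S2) (hc : Coherent L G S2 A τ) : Coherent L G S1 A τ
theorem nil_coherent (L G : Subgroup Γ) (A : Set Γ) (τ : (Γ → ℂ) →ₗ[ℂ] (Γ → ℂ)) : Coherent L G ∅ A τ
theorem coherent_with_congr {τ' : (Γ → ℂ) →ₗ[ℂ] (Γ → ℂ)} (h : ∀ α ∈ zspanOn S A, τ α = τ' α) (hc : CoherentWith L G S A τ ν) : CoherentWith L G S A τ' ν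
theorem subset_subcoherent (h : Subcoherent L G S2 τ R) (h1 : S1 ⊆ S2) (h2 : ConjClosed S1) : Subcoherent L G S1 τ R
theorem subcoherent_congr {τ' : (Γ → ℂ) →ₗ[ℂ] (Γ → ℂ)} (h : ∀ α ∈ zspanOn S (sharp (L : Set Γ)), τ α = τ' α) (hc : Subcoherent L G S τ R) : Subcoherent L G S τ' R
theorem coherent_with_dirr (hc : CoherentWith L G S A τ ν) {χ : Γ → ℂ} (hχ : χ ∈ S) (hi : IsIrr L χ) : IsDirr G (ν χ)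
-- 5.3 (a) 
theorem irr_subcoherent (hi : ∀ φ ∈ S, IsIrr L φ) (hc : ConjClosed S) (hr : ∀ φ ∈ S, star φ ≠ φ) (hτ : IsoTo L G (zspanOn S (sharp (L : Set Γ))) τ) (h1 : ∀ α ∈ zspanOn S (sharp (L : Set Γ)), τ α 1 = 0) : ∃ R, Subcoherent L G S τ R
-- 5.3 (b) 
theorem prDade_subcoherent {D : Γ → Subgroup Γ} (h : PrimeDadeHyp G L K H W1 W2 A A0 D) (hS : S ⊆ seqIndD K L H ⊥) (hc : ConjClosed S) (hr : ∀ φ ∈ S, star φ ≠ φ) : ∃ R, Subcoherent L G S (dade G A0 D) R ∧ (∀ φ ∈ S, IsIrr L φ → ∀ α ∈ R φ, ∀ i j, IsIrr W1 i → IsIrr W2 j → ⟪α, eta G W1 W2 i j⟫_G = 0) ∧ ∀ j, IsIrr W2 j → ∀ α, α ∈ R (primeTIred L W1 W2 j) ↔ ∃ i, IsIrr W1 i ∧ (α = primeTIsign L W1 W2 j • eta G W1 W2 i j ∨ α = -(primeTIsign L W1 W2 j • eta G W1 W2 i (star j)))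
theorem subcoherent_card (h : Subcoherent L G S τ R) {χ : Γ → ℂ} (hχ : χ ∈ S) : ((R χ).card : ℝ) = 2 * cfnorm L χ ∧ ⟪χ, star χ⟫_L = 0
-- 5.4, with `β = τ₁(χ - ψ) = X - Y` 
theorem subcoherent_norm (h : Subcoherent L G S τ R) {χ ψ Xc Yc : Γ → ℂ} (hχ : χ ∈ S) (hψ : IsCF L ψ) (ho1 : ⟪χ, ψ⟫_L = 0) (ho2 : ⟪star χ, ψ⟫_L = 0) (hX : Xc ∈ virt G) (hn : cfnorm G (Xc - Yc) = cfnorm L (χ - ψ)) (hd : ⟪Xc - Yc, τ (χ - star χ)⟫_G = ⟪χ - ψ, χ - star χ⟫_L) (hXY : ⟪Xc, Yc⟫_G = 0) (hY : ∀ α ∈ R χ, ⟪Yc, α⟫_G = 0) : cfnorm L χ ≤ cfnorm G Xc ∧ (cfnorm L ψ ≤ cfnorm G Yc → cfnorm G Xc = cfnorm L χ ∧ cfnorm G Yc = cfnorm L ψ ∧ ∃ E ⊆ R χ, Xc = ∑ α ∈ E, α)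
-- 5.5 
theorem coherent_sum_subseq (h : Subcoherent L G S τ R) {χ Xc : Γ → ℂ} (hχ : χ ∈ S) (hX : Xc ∈ virt G) (hn : cfnorm G Xc = cfnorm L χ) (hd : ⟪Xc, τ (χ - star χ)⟫_G = ⟪χ, χ⟫_L) : ∃ E ⊆ R χ, Xc = ∑ α ∈ E, α
-- 5.5 
theorem mem_coherent_sum_subseq (h : Subcoherent L G S τ R) (h1 : S1 ⊆ S) (hc1 : ConjClosed S1) (hν : CoherentWith L G S1 (sharp (L : Set Γ)) τ ν) {χ : Γ → ℂ} (hχ : χ ∈ S1) : ∃ E ⊆ R χ, ν χ = ∑ α ∈ E, α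
theorem coherent_ortho_supp (h : Subcoherent L G S τ R) (h1 : S1 ⊆ S) (hc1 : ConjClosed S1) (hν : CoherentWith L G S1 (sharp (L : Set Γ)) τ ν) {χ φ α : Γ → ℂ} (hχ : χ ∈ S) (hχ1 : χ ∉ S1) (hφ : φ ∈ zspan S1) (hα : α ∈ R χ) : ⟪ν φ, α⟫_G = 0
theorem coherent_ortho (h : Subcoherent L G S τ R) (h1 : S1 ⊆ S) (hc1 : ConjClosed S1) (hν1 : CoherentWith L G S1 (sharp (L : Set Γ)) τ ν1) (h2 : S2 ⊆ S) (hc2 : ConjClosed S2) (hν2 : CoherentWith L G S2 (sharp (L : Set Γ)) τ ν2) (hd : Disjoint S1 S2) {φ ψ : Γ → ℂ} (hφ : φ ∈ zspan S1) (hψ : ψ ∈ zspan S2) : ⟪ν1 φ, ν2 ψ⟫_G = 0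
theorem bridge_coherent (h : Subcoherent L G S τ R) (h1 : S1 ⊆ S) (hc1 : ConjClosed S1) (hν1 : CoherentWith L G S1 (sharp (L : Set Γ)) τ ν1) (h2 : S2 ⊆ S) (hc2 : ConjClosed S2) (hν2 : CoherentWith L G S2 (sharp (L : Set Γ)) τ ν2) (hd : Disjoint S1 S2) {χ φ : Γ → ℂ} (hχ : χ ∈ S1) (hφ : φ ∈ zspan S2) (h0 : (χ - φ) 1 = 0) (hτ : τ (χ - φ) = ν1 χ - ν2 φ) : Coherent L G (S1 ∪ S2) (sharp (L : Set Γ)) τ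
theorem pivot_coherence (h : Subcoherent L G S τ R) {η1 ζ1 : Γ → ℂ} (hη : η1 ∈ S) (hζ : ζ1 ∈ virt G) (hp : ∀ η ∈ S, η ≠ η1 → ∃ a : ℕ, η 1 = a * η1 1 ∧ ⟪τ (η - a • η1), ζ1⟫_G = -a * ⟪η1, η1⟫_L) (hn : ⟪ζ1, ζ1⟫_G = ⟪η1, η1⟫_L) : Coherent L G S (sharp (L : Set Γ)) τ
theorem dual_coherence (h : Subcoherent L G S τ R) {χ : Γ → ℂ} (hS : S = {χ, star χ}) (hν : CoherentWith L G S (sharp (L : Set Γ)) τ ν) : ∃ ν' : (Γ → ℂ) →ₗ[ℂ] (Γ → ℂ), CoherentWith L G S (sharp (L : Set Γ)) τ ν' ∧ ∀ φ ∈ S, ν' φ = -ν (star φ)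
-- 5.6.3 
theorem extend_coherent_with (h : Subcoherent L G S τ R) (h1 : S1 ⊆ S) (hc1 : ConjClosed S1) (hν : CoherentWith L G S1 (sharp (L : Set Γ)) τ ν) {χ φ Xc : Γ → ℂ} {a : ℤ} (hφ : φ ∈ S1) (hχ : χ ∈ S) (hχ1 : χ ∉ S1) (ha : χ 1 = a * φ 1) (hX : ⟪Xc, a • ν φ⟫_G = 0) (hτ : τ (χ - a • φ) = Xc - a • ν φ) : Coherent L G (insert χ (insert (star χ) S1)) (sharp (L : Set Γ)) τ
-- 5.6 
theorem extend_coherent (h : Subcoherent L G S τ R) {T : Finset (Γ → ℂ)} (h1 : (T : Set (Γ → ℂ)) ⊆ S) (hc1 : ConjClosed (T : Set (Γ → ℂ))) {ξ1 χ : Γ → ℂ} (hξ : ξ1 ∈ T) (hχ : χ ∈ S) (hχ1 : χ ∉ T) (hco : Coherent L G T (sharp (L : Set Γ)) τ) (hd : ∃ a : ℕ, χ 1 = a * ξ1 1) (hlt : 2 * (χ 1).re * (ξ1 1).re < ∑ ξ ∈ T, (ξ 1).re ^ 2 / cfnorm L ξ) : Coherent L G (insert χ (insert (star χ)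 (T : Set (Γ → ℂ)))) (sharp (L : Set Γ)) τ
-- 5.7 
theorem uniform_degree_coherence (h : Subcoherent L G S τ R) (hd : ∀ φ ∈ S, ∀ ψ ∈ S, φ 1 = ψ 1) : Coherent L G S (sharp (L : Set Γ)) τ
theorem pair_degree_coherence (h : Subcoherent L G S τ R) {φ ψ : Γ → ℂ} (hφ : φ ∈ S) (hψ : ψ ∈ S) (hd : φ 1 = ψ 1) : Coherent L G {φ, star φ, ψ, star ψ} (sharp (L : Set Γ)) τ
-- consequence of 5.3 (b) and 5.5 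
theorem coherent_ortho_cycTIiso {D : Γ → Subgroup Γ} (h : PrimeDadeHyp G L K H W1 W2 A A0 D) (hS : S ⊆ seqIndD K L H ⊥) (hc : ConjClosed S) (hr : ∀ φ ∈ S, star φ ≠ φ) (hν : CoherentWith L G S (sharp (L : Set Γ)) (dade G A0 D) ν) {χ i j : Γ → ℂ} (hχ : χ ∈ S) (hi : IsIrr L χ) (hi1 : IsIrr W1 i) (hj : IsIrr W2 j) : ⟪ν χ, eta G W1 W2 i j⟫_G = 0
-- 5.8 
theorem coherent_prDade_TIred {D : Γ → Subgroup Γ} (h : PrimeDadeHyp G L K H W1 W2 A A0 D) (hS : S ⊆ seqIndD K L H ⊥) (hc : ConjClosed S) (hr : ∀ φ ∈ S, star φ ≠ φ) (hi : ∃ χ ∈ S, IsIrr L χ) {k : Γ → ℂ} (hk : IsIrr W2 k) (hkS : primeTIred L W1 W2 k ∈ S) (hν : CoherentWith L G S (sharp (L : Set Γ)) (dade G A0 D) ν) : ν (primeTIred L W1 W2 k) = primeTIsign L W1 W2 k • ∑ i ∈ irr W1, eta G W1 W2 i k ∨ (ν (primeTIred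 L W1 W2 k) = -(primeTIsign L W1 W2 k • ∑ i ∈ irr W1, eta G W1 W2 i (star k)) ∧ ∀ l, IsIrr W2 l → primeTIred L W1 W2 l ∈ S → primeTIred L W1 W2 l 1 = primeTIred L W1 W2 k 1 → l = k ∨ l = star k)
-- 5.9 (a) 
theorem cfAut_Dade_coherent {D : Γ → Subgroup Γ} (h : DadeHyp G L A D) (hS : ∀ φ ∈ S, φ ∈ virt L) (hA : ∀ α ∈ zspanOn S (sharp (L : Set Γ)), ∀ x, x ∉ A → α x = 0) (hν : CoherentWith L G S (sharp (L : Set Γ)) (dade G A D) ν) {σ : ℂ →+* ℂ} (hσ : ∀ φ ∈ S, cfAut σ φ ∈ S) {χ ψ : Γ → ℂ} (hχ : χ ∈ S) (hi : IsIrr L χ) (hψ : ψ ∈ S) (hψi : IsIrr L ψ) (hne : ψ ≠ χ) : cfAut σ (ν χ) = ν (cfAut σ χ)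
-- 5.9 (a) for complex conjugation 
theorem cfConjC_Dade_coherent {D : Γ → Subgroup Γ} (h : DadeHyp G L A D) (hS : ∀ φ ∈ S, φ ∈ virt L) (hA : ∀ α ∈ zspanOn S (sharp (L : Set Γ)), ∀ x, x ∉ A → α x = 0) (hν : CoherentWith L G S (sharp (L : Set Γ)) (dade G A D) ν) (hc : ConjClosed S) {χ : Γ → ℂ} (hχ : χ ∈ S) (hi : IsIrr L χ) (hr : star χ ≠ χ) : star (ν χ) = ν (star χ)
-- 5.9 (b) 
theorem Dade_irr_sub_conjC {D : Γ → Subgroup Γ} (h : DadeHyp G L A D) {χ : Γ → ℂ} (hi : IsIrr L χ) (hA : ∀ x, x ≠ 1 → x ∉ A → (χ - star χ) x = 0) : ∃ ψ, IsIrr G ψ ∧ dade G A D (χ - star χ) = ψ - star ψ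
-/
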