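import Cfsg.Agent.FT.CF4
import Cfsg.Agent.FT.Basic
import Cfsg.Agent.FT.PP06a
import Cfsg.Agent.FT.PP06b
import Cfsg.Agent.FT.PP06c

/- LINKED interface; the statements, proved in the imported files:

variable {Γ : Type u} [Group Γ] [Finite Γ] {G L K H M : Subgroup Γ} {τ : (Γ → ℂ) →ₗ[ℂ] (Γ → ℂ)} {R : (Γ → ℂ) → Finset (Γ → ℂ)}
-- 6.2 
theorem coherent_seqIndD_bound (hK : K ⊴ L) (hs : Group.IsSolvable K) (h : Subcoherent L G (seqIndD K L K M) τ R) {A B C D : Subgroup Γ} (hA : A ⊴ L) (hB : B ⊴ L) (hC : C ⊴ L) (hD : D ⊴ L) (hMA : M ≤ A) (hMB : M ≤ B) (hAK : A < K) (hBD : B ≤ D) (hDC : D ≤ C) (hCK : C ≤ K) (hZ : ⁅D, C⁆ ≤ B) (hco : Coherent L G (seqIndD K L K A) (sharp (L : Set Γ)) τ) (hn : ¬ Coherent L G (seqIndD K L K B) (sharp (L : Set Γ)) τ) : (A.relIndex K : ℝ) - 1 ≤ 2 * (C.relIndex L :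 ℝ) * Real.sqrt (D.relIndex C : ℝ)
-- 6.3 
theorem bounded_seqIndD_coherence (hK : K ⊴ L) (hs : Group.IsSolvable K) (h : Subcoherent L G (seqIndD K L K M) τ R) {H1 : Subgroup Γ} (hM : M ⊴ L) (hH : H ⊴ L) (hH1 : H1 ⊴ L) (hMH : M ≤ H1) (hH1H : H1 ≤ H) (hHK : H ≤ K) (hn : Group.IsNilpotent (H ⁒ M)) (hco : Coherent L G (seqIndD K L K H1) (sharp (L : Set Γ)) τ) (hlt : 4 * K.relIndex L ^ 2 + 1 < H1.relIndex H) : Coherent L G (seqIndD K L K M) (sharp (L : Set Γ)) τ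
-- 6.5; hypothesis 6.4 (c) says that `L / K'M` is a Frobenius group with kernel `K / K'M` 
theorem non_coherent_chief (hK : K ⊴ L) (hs : Group.IsSolvable K) (h : Subcoherent L G (seqIndD K L K M) τ R) (ho : Odd #|L|) (hM : M ⊴ L) (hMK : M ≤ K) (hn : Group.IsNilpotent (K ⁒ M)) (hF : ∃ E, IsFrob (K ⁒ (der K ⊔ M)) E (L ⁒ (der K ⊔ M))) (hnc : ¬ Coherent L G (seqIndD K L K M) (sharp (L : Set Γ)) τ) : ChiefFactor L (der K ⊔ M) K ∧ (der K ⊔ M).relIndex K ≤ 4 * K.relIndex L ^ 2 + 1 ∧ ∃ p : ℕ, p.Prime ∧ IsPGroup p (K ⁒ M) ∧ ¬ der K ≤ M ∧ ¬ K.relIndex L ∣ p - 1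
-- 6.6 
theorem seqIndD_irr_coherence (hK : K ⊴ L) (h : Subcoherent L G (seqIndD K L K ⊥) τ R) (ho : Odd #|L|) (hn : Group.IsNilpotent K) (hF : ∃ E, IsFrob (K ⁒ der K) E (L ⁒ der K)) {Z : Subgroup Γ} (hZ : Z ⊴ L) (hZ1 : Z ≠ ⊥) (hZK : Z ≤ Zen K) (hi : ∀ φ ∈ seqIndD K L Z ⊥, IsIrr L φ) : (∀ χ, χ ∈ seqIndD K L Z ⊥ ↔ IsIrr L χ ∧ ¬ Z ≤ cfker L χ) ∧ Coherent L G (seqIndD K L Z ⊥) (sharp (L : Set Γ)) τ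
-- 6.7 
theorem constant_irr_mod_TI_Sylow {p : ℕ} [Fact p.Prime] {P Z : Subgroup Γ} (hP : IsSylowIn p P G) (ho : Odd #|L|) (hti : NormedTI (sharp (P : Set Γ)) G L) (hZ : Z ⊴ L) (hZ1 : Z ≠ ⊥) (hZP : Z ≤ Zen P) (hc : ∀ x ∈ Z, x ≠ 1 → ∀ y ∈ Z, y ≠ 1 → #|L ⊓ 𝐂[x]| = #|L ⊓ 𝐂[y]|) {ψ : Γ → ℂ} (hψ : IsIrr G ψ) (hcst : ∀ x ∈ Z, x ≠ 1 → ∀ y ∈ Z, y ≠ 1 → ψ x = ψ y) {x : Γ} (hx : x ∈ Z) (hx1 : x ≠ 1) : ∃ n : ℤ, ψ x - ψ 1 = n * (#|P| : ℕ)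
-- 6.8, case (c1) 
theorem Sibley_coherence_Frob {W1 : Subgroup Γ} (ho : Odd #|L|) (hn : Group.IsNilpotent H) (hti : NormedTI (sharp (H : Set Γ)) G L) (hF : IsFrob H W1 L) : Coherent L G (seqIndD H L H ⊥) (sharp (L : Set Γ)) (ind G L)
-- 6.8, case (c2) 
theorem Sibley_coherence_prDade {W1 W2 : Subgroup Γ} {A0 : Set Γ} {D : Γ → Subgroup Γ} (ho : Odd #|L|) (hn : Group.IsNilpotent H) (hti : NormedTI (sharp (H : Set Γ)) G L) (hp : (#|W2|).Prime) (h2 : W2 ≤ der H) (h : PrimeDadeHyp G L H H W1 W2 (sharp (H : Set Γ)) A0 D) : Coherent L G (seqIndD H L H ⊥) (sharp (L : Set Γ)) (ind G L)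
-/
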