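import Cfsg.Agent.FT.CF4
import Cfsg.Agent.FT.Basic
import Cfsg.Agent.FT.PP07a
import Cfsg.Agent.FT.PP07b

/- LINKED interface; the statements, proved in the imported files:

variable {Γ : Type u} [Group Γ] [Finite Γ] {G L H : Subgroup Γ} {A : Set Γ} {D : Γ → Subgroup Γ} {ν : (Γ → ℂ) →ₗ[ℂ] (Γ → ℂ)}
theorem invDade_on (h : DadeHyp G L A D) {χ : Γ → ℂ} (hχ : IsCF G χ) : IsCFOn L A (invDade A D χ)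
theorem invDade_cfun1 (h : DadeHyp G L A D) {a : Γ} (ha : a ∈ A) : invDade A D (cf1 G) a = 1
theorem invDade_of_triv {χ : Γ → ℂ} {a : Γ} (ha : a ∈ A) (h : ∀ x ∈ D a, χ (x * a) = χ a) : invDade A D χ a = χ a
-- 7.2 (a) 
theorem DadeK (h : DadeHyp G L A D) {α : Γ → ℂ} (hα : IsCFOn L A α) : invDade A D (dade G A D α) = α
-- 7.2 (b) 
theorem leC_norm_invDade (h : DadeHyp G L A D) {χ : Γ → ℂ} (hχ : IsCF G χ) : cfnorm L (invDade A D χ) ≤ cfnorm G χ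
-- 7.3 
theorem leC_cfnorm_invDade_support (h : DadeHyp G L A D) {χ : Γ → ℂ} (hχ : IsCF G χ) : cfnorm L (invDade A D χ) ≤ ((#|G| : ℕ) : ℝ)⁻¹ * ∑ᶠ g ∈ dadeSupp G A D, ‖χ g‖ ^ 2 ∧ (cfnorm L (invDade A D χ) = ((#|G| : ℕ) : ℝ)⁻¹ * ∑ᶠ g ∈ dadeSupp G A D, ‖χ g‖ ^ 2 ↔ ∀ a ∈ A, ∀ x ∈ D a, χ (x * a) = χ a)
theorem card_Dade_support (h : DadeHyp G L A D) : (dadeSupp G A D).ncard * #|L| = A.ncard * #|G|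
-- 7.5 
theorem Dade_cover_inequality {ι : Type} [Fintype ι] {Li : ι → Subgroup Γ} {Ai : ι → Set Γ} {Di : ι → Γ → Subgroup Γ} (h : ∀ i, DadeHyp G (Li i) (Ai i) (Di i)) (hd : ∀ i j, i ≠ j → Disjoint (dadeSupp G (Ai i) (Di i)) (dadeSupp G (Ai j) (Di j))) {χ : Γ → ℂ} (hχ : IsCF G χ) (h1 : cfnorm G χ = 1) {G0 : Set Γ} (hG0 : G0 = (G : Set Γ) \ ⋃ i, dadeSupp G (Ai i) (Di i)) : ((#|G| : ℕ) : ℝ)⁻¹ * (∑ᶠ g ∈ G0, ‖χ g‖ ^ 2 - G0.ncard) + ∑ i, (cfnorm (Li i) (invDade (Ai i) (Di i) χ) - ((Ai i).ncard : ℝ) / (#|Li i| : ℕ)) ≤ 0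
-- 7.7, with `c ξ = ⟪(ξ - d_ξ ξ₀)^τ, χ⟫` 
theorem invDade_seqInd_sum (h : DadeHyp G L (sharp (H : Set Γ)) D) (hH : H ⊴ L) {ξ0 χ : Γ → ℂ} (hξ : ξ0 ∈ seqIndT H L) (hχ : IsCF G χ) {c : (Γ → ℂ) → ℂ} (hc : ∀ ξ, c ξ = ⟪dade G (sharp (H : Set Γ)) D (ξ - (ξ 1 / ξ0 1) • ξ0), χ⟫_G) : (∀ x ∈ H, x ≠ 1 → invDade (sharp (H : Set Γ)) D χ x = ∑ ξ ∈ (seqIndT H L).erase ξ0, conj (c ξ) / ⟪ξ, ξ⟫_L * ξ x) ∧ (cfnorm L (invDade (sharp (H : Set Γ)) D χ) : ℂ) = ∑ ξ ∈ (seqIndT H L).erase ξ0, c ξ * conj (c ξ) / ⟪ξ, ξ⟫_L - (∑ ξ ∈ (seqIndT H L).erase ξ0, conj (c ξ) / ⟪ξ, ξ⟫_L * ξ 1) * conj (∑ ξ ∈ (seqIndT H L).erase ξ0, conj (c ξ) / ⟪ξ, ξ⟫_L * ξ 1) / (#|L| : ℕ)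
-- 7.8 (a), (b), with `β = (Ind 1 - ζ)^τ` 
theorem Dade_Ind1_sub_lin (h : DadeHyp G L (sharp (H : Set Γ)) D) (hH : H ⊴ L) (hν : CoherentWith L G (seqIndD H L H ⊥) (sharp (L : Set Γ)) (dade G (sharp (H : Set Γ)) D) ν) (h2 : 1 < (seqIndD H L H ⊥).card) {ζ β : Γ → ℂ} (hζ : IsIrr L ζ) (hζS : ζ ∈ seqIndD H L H ⊥) (hζ1 : ζ 1 = (H.relIndex L : ℕ)) (hβ : β = dade G (sharp (H : Set Γ)) D (ind L H (cf1 H) - ζ)) : (∀ ξ ∈ seqIndD H L H ⊥, ⟪ν ξ, cf1 G⟫_G = 0) ∧ ⟪β, cf1 G⟫_G = 1 ∧ β ∈ virt G ∧ ⟪β, β⟫_G = (H.relIndex L : ℕ) + 1 ∧ ∃ (Γ0 : Γ → ℂ) (a : ℤ), IsCF G Γ0 ∧ (∀ ξ ∈ seqIndD H L H ⊥, ⟪ν ξ, Γ0⟫_G = 0) ∧ ⟪Γ0, cf1 G⟫_G = 0 ∧ β = cf1 G - ν ζ + a • ∑ ξ ∈ seqIndD H L H ⊥, (ξ 1 / (H.relIndex L : ℕ) / ⟪ξ, ξ⟫_L) • ν ξ + Γ0 ∧ (2 * H.relIndex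 L + 1 ≤ #|H| → 1 - (H.relIndex L : ℝ) / (#|H| : ℕ) ≤ cfnorm L (invDade (sharp (H : Set Γ)) D (ν ζ)) ∧ cfnorm G Γ0 ≤ (H.relIndex L : ℝ) - 1)
-- 7.8 (c) 
theorem Dade_Ind1_sub_lin_ortho (h : DadeHyp G L (sharp (H : Set Γ)) D) (hH : H ⊴ L) (hν : CoherentWith L G (seqIndD H L H ⊥) (sharp (L : Set Γ)) (dade G (sharp (H : Set Γ)) D) ν) {ζ β χ : Γ → ℂ} (hζS : ζ ∈ seqIndD H L H ⊥) (hζ1 : ζ 1 = (H.relIndex L : ℕ)) (hβ : β = dade G (sharp (H : Set Γ)) D (ind L H (cf1 H) - ζ)) (hχ : χ ∈ virt G) (ho : ∀ ξ ∈ seqIndD H L H ⊥, ⟪ν ξ, χ⟫_G = 0) : (∀ x ∈ H, x ≠ 1 → invDade (sharp (H : Set Γ)) D χ x = ⟪β, χ⟫_G) ∧ (cfnorm L (invDade (sharp (H : Set Γ)) D χ) : ℂ) = ((#|H| : ℕ) - 1) / (#|L| : ℕ) * ⟪β, χ⟫_G ^ 2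
theorem disjoint_Dade_ortho {A1 A2 : Set Γ} {D1 D2 : Γ → Subgroup Γ} (hd : Disjoint (dadeSupp G A1 D1) (dadeSupp G A2 D2)) (φ ψ : Γ → ℂ) : ⟪dade G A1 D1 φ, dade G A2 D2 ψ⟫_G = 0
theorem disjoint_coherent_ortho {L1 L2 H1 H2 : Subgroup Γ} {D1 D2 : Γ → Subgroup Γ} {ν1 ν2 : (Γ → ℂ) →ₗ[ℂ] (Γ → ℂ)} (ho : Odd #|G|) (h1 : DadeHyp G L1 (sharp (H1 : Set Γ)) D1) (hH1 : H1 ⊴ L1) (h2 : DadeHyp G L2 (sharp (H2 : Set Γ)) D2) (hH2 : H2 ⊴ L2) (hd : Disjoint (dadeSupp G (sharp (H1 : Set Γ)) D1) (dadeSupp G (sharp (H2 : Set Γ)) D2)) (hν1 : CoherentWith L1 G (seqIndD H1 L1 H1 ⊥) (sharp (L1 : Set Γ)) (dade G (sharp (H1 : Set Γ)) D1) ν1) (hν2 : CoherentWith L2 G (seqIndD H2 L2 H2 ⊥) (sharp (L2 : Set Γ)) (dade G (sharp (H2 : Set Γ)) D2) ν2) {χ1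 χ2 : Γ → ℂ} (hχ1 : χ1 ∈ seqIndD H1 L1 H1 ⊥) (hi1 : IsIrr L1 χ1) (hχ2 : χ2 ∈ seqIndD H2 L2 H2 ⊥) (hi2 : IsIrr L2 χ2) : ⟪ν1 χ1, ν2 χ2⟫_G = 0
-- 7.9 
theorem Dade_sub_lin_nonorthogonal {L1 L2 H1 H2 : Subgroup Γ} {D1 D2 : Γ → Subgroup Γ} {ν1 ν2 : (Γ → ℂ) →ₗ[ℂ] (Γ → ℂ)} (ho : Odd #|G|) (h1 : DadeHyp G L1 (sharp (H1 : Set Γ)) D1) (hH1 : H1 ⊴ L1) (h2 : DadeHyp G L2 (sharp (H2 : Set Γ)) D2) (hH2 : H2 ⊴ L2) (hd : Disjoint (dadeSupp G (sharp (H1 : Set Γ)) D1) (dadeSupp G (sharp (H2 : Set Γ)) D2)) (hν1 : CoherentWith L1 G (seqIndD H1 L1 H1 ⊥) (sharp (L1 : Set Γ)) (dade G (sharp (H1 : Set Γ)) D1) ν1) (hν2 : CoherentWith L2 G (seqIndD H2 L2 H2 ⊥) (sharp (L2 : Set Γ)) (dade G (sharp (H2 : Set Γ)) D2) ν2) {ζ1 ζ2 : Γ → ℂ} (hζ1 : ζ1 ∈ seqIndD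 H1 L1 H1 ⊥) (hi1 : IsIrr L1 ζ1) (hd1 : ζ1 1 = (H1.relIndex L1 : ℕ)) (hζ2 : ζ2 ∈ seqIndD H2 L2 H2 ⊥) (hi2 : IsIrr L2 ζ2) (hd2 : ζ2 1 = (H2.relIndex L2 : ℕ)) : ⟪dade G (sharp (H1 : Set Γ)) D1 (ind L1 H1 (cf1 H1) - ζ1), ν2 ζ2⟫_G ≠ 0 ∨ ⟪dade G (sharp (H2 : Set Γ)) D2 (ind L2 H2 (cf1 H2) - ζ2), ν1 ζ1⟫_G ≠ 0
theorem odd_Frobenius_index_ler {K E : Subgroup Γ} (ho : Odd #|L|) (h : IsFrob K E L) : 2 * K.relIndex L + 1 ≤ #|K|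
-- 7.11 
theorem no_coherent_Frobenius_partition {ι : Type} [Fintype ι] {Li Hi : ι → Subgroup Γ} (h2 : 2 ≤ Fintype.card ι) (ho : Odd #|G|) (hF : ∀ i, Group.IsSolvable (Li i) ∧ ∃ E, IsFrob (Hi i) E (Li i)) (hti : ∀ i, NormedTI (sharp (Hi i : Set Γ)) G (Li i)) (hc : ∀ i j, i ≠ j → (#|Hi i|).Coprime #|Hi j|) : ∃ g ∈ G, g ≠ 1 ∧ ∀ i, g ∉ classSupport (sharp (Hi i : Set Γ)) G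
-/
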