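import Cfsg.Agent.FT.DP08
import Cfsg.Agent.FT.PP08a
import Cfsg.Agent.FT.PP08b

/- LINKED interface; the statements, proved in the imported files:

variable {G : Type u} [Group G] [Finite G] [MinCE G] {M U V W1 W2 S T : Subgroup G}
theorem compl_of_typeF (hV : IsSdp (Fcore M) V M) (h : OfTypeF M U) : OfTypeF M V
theorem compl_of_typeI (hV : IsSdp (Fcore M) V M) (h : OfTypeI M U) : OfTypeI M V
theorem Frobenius_of_typeF (h : IsFrob (Fcore M) U M) : OfTypeF M U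
-- 8.2 (a) 
theorem typeF_card_compl {H U0 : Subgroup G} (h : IsFrob H U0 (H ⊔ U0)) : Monoid.exponent U0 = #|U0|
-- 8.2 (b) 
theorem typeF_Frobenius_iff (h : OfTypeF M U) : IsZGroup U ↔ IsFrob (Fcore M) U M
-- 8.2 (c) 
theorem typeF_inertia (h : OfTypeF M U) {U1 : Subgroup G} (h1 : ∀ x ∈ Fcore M, x ≠ 1 → U ⊓ 𝐂[x] ≤ U1) {θ : G → ℂ} (hθ : IsIrr (Fcore M) θ) (hθ1 : θ ≠ cf1 (Fcore M)) : U ⊓ stab θ ≤ U1
theorem typeP_cent_compl (h : OfTypeP M U W1 W2) : der M ⊓ 𝐂(W1) = W2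
theorem typeP_cent_core_compl (h : OfTypeP M U W1 W2) : Fcore M ⊓ 𝐂(W1) = W2
theorem typePF_exclusion (h : OfTypeP M U W1 W2) (K : Subgroup G) : ¬ OfTypeF M K
theorem of_typeP_compl_conj (h : OfTypeP M U W1 W2) {X : Subgroup G} (hX : IsSdp (der M) X M) : ∃ g ∈ M, cj g W1 = X
theorem conj_of_typeP (h : OfTypeP M U W1 W2) (g : G) : OfTypeP (cj g M) (cj g U) (cj g W1) (cj g W2)
theorem of_typeP_conj {U' W1' W2' : Subgroup G} (h : OfTypeP M U W1 W2) (h' : OfTypeP M U' W1' W2') : ∃ g ∈ M, cj g U = U' ∧ cj g W1 = W1' ∧ cj g W2 = W2'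
-- 8.5 
theorem typeP_context (h : OfTypeP M U W1 W2) : IsDp (Fcore M) (U ⊓ 𝐂(Fcore M)) (Fit M) ∧ der U ≤ 𝐂(Fcore M) ∧ (U ≠ ⊥ → ¬ U ≤ 𝐂(Fcore M))
theorem FT_cyclicTI_hyp (h : OfTypeP M U W1 W2) : CycTIHyp ⊤ W1 W2
theorem FT_primeTI_hyp (h : OfTypeP M U W1 W2) : PrimeTIHyp M (der M) W1 W2
theorem FTtypeP_witness (hM : IsCoatom M) (h : FTtype M ≠ 1) : ∃ U W1 W2, OfTypeP M U W1 W2
theorem FTtypeP_neq1 (hM : IsCoatom M) (h : OfTypeP M U W1 W2) : FTtype M ≠ 1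
theorem compl_of_typeII_IV (hM : IsCoatom M) (h : OfTypeP M U W1 W2) (h5 : FTtype M ≠ 5) : OfTypeII_IV M U W1 W2
-- 8.8 
theorem FTtypeP_pair_cases : (∀ M : Subgroup G, IsCoatom M → FTtype M = 1) ∨ ∃ S T W1 W2 : Subgroup G, TypePPair S T W1 W2
-- 8.9 
theorem typeP_pairW (h : TypePPair S T W1 W2) : ∃ U, OfTypeP S U W1 W2
theorem FTtypeP_pair_witness (hM : IsCoatom M) (h : OfTypeP M U W1 W2) : ∃ T V, TypePPair M T W1 W2 ∧ OfTypeP T V W2 W1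
theorem of_typeP_pair (hS : IsCoatom S) (h : OfTypeP S U W1 W2) (hT : IsCoatom T) (h' : OfTypeP T V W2 W1) : TypePPair S T W1 W2
theorem typeP_pair_notJ (h : TypePPair S T W1 W2) : ∀ g : G, cj g S ≠ T
-- 8.11 
theorem FTcore_facts (hM : IsCoatom M) : IsHall (Fcore M) ⊤ ∧ IsHall (FTcore M) ⊤ ∧ ∀ (p : ℕ) (P : Subgroup G), p.Prime → IsSylowIn p P (FTcore M) → P ≠ ⊥ → 𝐍(P) ≤ M
-- 8.12 
theorem FTtypeI_II_facts (hM : IsCoatom M) (h : FTtype M ≤ 2) (hU : IsSdp (Fcore M) U (FTder M)) : (∀ (p : ℕ) (P : Subgroup G), p.Prime → IsSylowIn p P U → IsMulCommutative P ∧ rank P ≤ 2) ∧ (∀ X : Subgroup G, X ≤ U → X ≠ ⊥ → Fcore M ⊓ 𝐂(X) ≠ ⊥ → UniqMax 𝐂(X) M) ∧ ((FTsupp M \ FTsupp1 M).Nonempty → NormedTI (FTsupp M \ FTsupp1 M) ⊤ M)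
-- 8.13 
theorem FTsupport_facts (hM : IsCoatom M) {x : G} (hx : x ∈ FTsupp0 M) (hC : ¬ 𝐂[x] ≤ M) : x ∈ FTsupp1 M ∧ UniqMax 𝐂[x] (sigBase x) ∧ (IsSdp (Fcore (sigBase x)) (M ⊓ sigBase x) (sigBase x) ∧ IsSdp (Fcore (sigBase x) ⊓ 𝐂[x]) (M ⊓ 𝐂[x]) 𝐂[x]) ∧ (∀ y ∈ FTsupp0 M, (#|Fcore (sigBase x)|).Coprime #|M ⊓ 𝐂[y]|) ∧ x ∈ FTsupp (sigBase x) \ FTsupp1 (sigBase x) ∧ (FTtype (sigBase x) = 1 ∨ FTtype (sigBase x) = 2) ∧ (FTtype (sigBase x) = 2 → ∃ E, IsFrob (Fcore M) E M) ∧ FTsigR M x = Fcore (sigBase x) ⊓ 𝐂[x]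
theorem FTsignalizerJ (hM : IsCoatom M) {x : G} (hx : x ∈ FTsupp0 M) (g : G) : FTsigR (cj g M) (g * x * g⁻¹) = cj g (FTsigR M x)
theorem FT_Dade_supportJ (hM : IsCoatom M) (g : G) : FTdadeSupp (cj g M) (FTsupp1 (cj g M)) = FTdadeSupp M (FTsupp1 M) ∧ FTdadeSupp (cj g M) (FTsupp (cj g M)) = FTdadeSupp M (FTsupp M) ∧ FTdadeSupp (cj g M) (FTsupp0 (cj g M)) = FTdadeSupp M (FTsupp0 M)
-- 8.15 
theorem FT_Dade0_hyp (hM : IsCoatom M) : DadeHyp ⊤ M (FTsupp0 M) (FTsigR M)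
theorem FT_Dade_hyp (hM : IsCoatom M) : DadeHyp ⊤ M (FTsupp M) (FTsigR M)
theorem FT_Dade1_hyp (hM : IsCoatom M) : DadeHyp ⊤ M (FTsupp1 M) (FTsigR M)
theorem FT_DadeF_hyp (hM : IsCoatom M) : DadeHyp ⊤ M (sharp (Fcore M : Set G)) (FTsigR M)
theorem FT_Dade1_support_eq (hM : IsCoatom M) : FTdadeSupp M (FTsupp1 M) = classSupport (sigmaSupport M) ⊤
theorem FTtypeP_supp0_def (hM : IsCoatom M) (h : OfTypeP M U W1 W2) : FTsupp0 M = FTsupp M ∪ classSupport (cycTIset W1 W2) M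
-- 8.15 
theorem FT_prDade_hypF (hM : IsCoatom M) (h : OfTypeP M U W1 W2) : PrimeDadeHyp ⊤ M (der M) (Fcore M) W1 W2 (FTsupp M) (FTsupp0 M) (FTsigR M)
-- 8.15 
theorem FT_prDade_hyp (hM : IsCoatom M) (h : OfTypeP M U W1 W2) : PrimeDadeHyp ⊤ M (der M) (FTcore M) W1 W2 (FTsupp M) (FTsupp0 M) (FTsigR M)
-- 8.16 
theorem FTtypeII_ker_TI (hM : IsCoatom M) (h : FTtype M = 2) : NormedTI (FTsupp0 M) ⊤ M ∧ NormedTI (FTsupp M) ⊤ M ∧ NormedTI (FTsupp1 M) ⊤ M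
-- 8.17 (a) 
theorem FTcore_primes {p : ℕ} (hp : p ∈ π((⊤ : Subgroup G))) : ∃ M : Subgroup G, IsCoatom M ∧ p ∈ π(FTcore M)
-- 8.17 (a) 
theorem FTcore_coprime (hS : IsCoatom S) (hT : IsCoatom T) (hJ : ∀ g : G, cj g S ≠ T) : (#|FTcore S|).Coprime #|FTcore T|
-- 8.17 (b) 
theorem card_FT_Dade1_support (hM : IsCoatom M) : (FTdadeSupp M (FTsupp1 M)).ncard = (#|FTcore M| - 1) * M.index
-- 8.17 (c) 
theorem FT_Dade1_support_disjoint (hS : IsCoatom S) (hT : IsCoatom T) (hJ : ∀ g : G, cj g S ≠ T) : Disjoint (FTdadeSupp S (FTsupp1 S)) (FTdadeSupp T (FTsupp1 T))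
-- 8.17 (c) 
theorem FT_Dade_support_cover1 (h : ∀ M : Subgroup G, IsCoatom M → FTtype M = 1) {g : G} (hg : g ≠ 1) : ∃ M, IsCoatom M ∧ g ∈ FTdadeSupp M (FTsupp1 M)
-- 8.17 (c) 
theorem FT_Dade_support_cover2 (h : TypePPair S T W1 W2) : (∀ g : G, g ≠ 1 → g ∈ classSupport (cycTIset W1 W2) ⊤ ∨ ∃ M, IsCoatom M ∧ g ∈ FTdadeSupp M (FTsupp1 M)) ∧ ∀ M, IsCoatom M → Disjoint (classSupport (cycTIset W1 W2) ⊤) (FTdadeSupp M (FTsupp1 M))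
-- 8.18 (a) 
theorem FTsupports_iff (hS : IsCoatom S) (hT : IsCoatom T) (hJ : ∀ g : G, cj g S ≠ T) : (FTsupports S T ↔ ¬ Disjoint (FTsupp1 S) (FTsupp T)) ∧ ∀ x ∈ FTsupp1 S, x ∈ FTsupp T → ¬ 𝐂[x] ≤ S ∧ x ∉ FTsupp1 T
-- 8.18 (b) 
theorem FTsupports_conj_iff (hS : IsCoatom S) (hT : IsCoatom T) (hJ : ∀ g : G, cj g S ≠ T) : (∃ g : G, FTsupports S (cj g T)) ↔ ¬ Disjoint (FTdadeSupp S (FTsupp1 S)) (FTdadeSupp T (FTsupp T))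
-- 8.18 (c) 
theorem FT_Dade_support_disjoint (hS : IsCoatom S) (hT : IsCoatom T) (hJ : ∀ g : G, cj g S ≠ T) : Disjoint (FTdadeSupp S (FTsupp1 S)) (FTdadeSupp T (FTsupp T)) ∨ Disjoint (FTdadeSupp T (FTsupp1 T)) (FTdadeSupp S (FTsupp S))
-/
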