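import Cfsg.Agent.FT.DP08
import Cfsg.Agent.FT.PP09a
import Cfsg.Agent.FT.PP09b
import Cfsg.Agent.FT.PP09c
import Cfsg.Agent.FT.PP09d
import Cfsg.Agent.FT.PP09e
import Cfsg.Agent.FT.PP09f

/- LINKED interface; the statements, proved in the imported files:

variable {G : Type u} [Group G] [Finite G] [MinCE G] {M U W1 W2 H0 : Subgroup G} {p : ℕ}
theorem Ptype_Fcore_sdprod (h : OfTypeP M U W1 W2) : IsSdp U W1 (U ⊔ W1) ∧ IsSdp (Fcore M) (U ⊔ W1) M ∧ (#|Fcore M|).Coprime #|U ⊔ W1|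
theorem Ptype_compl_Frobenius (h : OfTypeP M U W1 W2) (hU : U ≠ ⊥) : IsFrob U W1 (U ⊔ W1)
-- 9.3 
theorem typeII_core (hM : IsCoatom M) (h : OfTypeP M U W1 W2) (h2 : FTtype M = 2) : Fcore M ⊓ 𝐂(U) = ⊥ ∧ #|Fcore M| = #|W2| ^ #|W1|
-- 9.3 
theorem typeIII_IV_core (hM : IsCoatom M) (h : OfTypeP M U W1 W2) (h2 : FTtype M ≠ 2) (h5 : FTtype M ≠ 5) : (#|W2|).Prime ∧ Fcore M ⊓ 𝐂(U ⊔ W1) = ⊥ ∧ #|Fcore M| = #|W2| ^ #|W1| * #|Fcore M ⊓ 𝐂(U)|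
-- 9.4 
theorem Ptype_Fcore_kernel_exists (hM : IsCoatom M) (h : OfTypeP M U W1 W2) (h5 : FTtype M ≠ 5) : ∃ H0, FcoreKer M U H0
-- 9.4, 9.6 
theorem Ptype_Fcore_factor_facts (hM : IsCoatom M) (h : OfTypeP M U W1 W2) (h5 : FTtype M ≠ 5) (h0 : FcoreKer M U H0) : ∃ p : ℕ, p.Prime ∧ IsElementaryAbelian p (Fcore M ⁒ H0) ∧ Ckern M U H0 ≠ U ∧ H0.relIndex W2 = p ∧ H0.relIndex (Fcore M) = p ^ #|W1| ∧ ((#|W2|).Prime → p = #|W2|)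
theorem Ptype_Fcore_extensions_normal (h : OfTypeP M U W1 W2) (h0 : FcoreKer M U H0) : H0 ⊴ M ∧ der (Fcore M) ≤ H0 ∧ Ckern M U H0 ⊴ U ⊔ W1 ∧ H0 ⊔ Ckern M U H0 ⊴ M ∧ Fcore M ⊔ Ckern M U H0 ⊴ M ∧ H0 ⊔ der U ⊴ M ∧ H0 ⊔ der (Ckern M U H0) ⊴ M ∧ der U ≤ Ckern M U H0
theorem Ptype_Fcompl_quo_Frobenius (hM : IsCoatom M) (h : OfTypeP M U W1 W2) (h5 : FTtype M ≠ 5) (h0 : FcoreKer M U H0) : #|W1| ∣ (Ckern M U H0).relIndex U - 1 ∧ 2 * #|W1| + 1 ≤ (Ckern M U H0).relIndex U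
-- 9.7 (a), `H₁` is the preimage in `H` of the subgroup of the text, `a = |U : C_U(H₁ / H₀)|` 
theorem typeP_Galois_Pn (hM : IsCoatom M) (h : OfTypeP M U W1 W2) (h5 : FTtype M ≠ 5) (h0 : FcoreKer M U H0) (hp : H0.relIndex W2 = p) (hG : ¬ TypePGalois M U H0) : ∃ (H1 : Subgroup G) (a : ℕ), H0 ≤ H1 ∧ H1 ≤ Fcore M ∧ H0.relIndex H1 = p ∧ U ≤ 𝐍(H1) ∧ ⨆ w ∈ W1, cj w H1 = Fcore M ∧ a = (U ⊓ cmod H0 H1).relIndex U ∧ 1 < a ∧ a ∣ p - 1 ∧ IsCyclic (U ⁒ (U ⊓ cmod H0 H1)) ∧ (∀ x ∈ U, x ^ a ∈ Ckern M U H0) ∧ (Ckern M U H0).relIndex U ∣ a ^ (#|W1| - 1)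
-- 9.7 (b) 
theorem typeP_Galois_P (hM : IsCoatom M) (h : OfTypeP M U W1 W2) (h5 : FTtype M ≠ 5) (h0 : FcoreKer M U H0) (hp : H0.relIndex W2 = p) (hG : TypePGalois M U H0) : IsCyclic (U ⁒ Ckern M U H0) ∧ ((Ckern M U H0).relIndex U).Coprime (p - 1) ∧ (Ckern M U H0).relIndex U ∣ (p ^ #|W1| - 1) / (p - 1) ∧ ∀ x ∈ U, x ∉ Ckern M U H0 → ∀ y ∈ Fcore M, ⁅x, y⁆ ∈ H0 → y ∈ H0
-- 9.8 (a), (c), (d) 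
theorem typeP_nonGalois_characters (hM : IsCoatom M) (h : OfTypeP M U W1 W2) (h5 : FTtype M ≠ 5) (h0 : FcoreKer M U H0) (hp : H0.relIndex W2 = p) {H1 : Subgroup G} {a : ℕ} (h1 : H0 ≤ H1) (h2 : H1 ≤ Fcore M) (h3 : H0.relIndex H1 = p) (h4 : U ≤ 𝐍(H1)) (ha : a = (U ⊓ cmod H0 H1).relIndex U) : (∀ χ ∈ irrKerD (der M) (Fcore M) H0, ∃ n : ℕ, χ 1 = (a * n : ℕ)) ∧ (∃ ζ, IsIrr M ζ ∧ IsIndHC M U W1 H0 ζ) ∧ a ^ 2 * #|der U| ∣ (p - 1) * #|U| ∧ (p - 1) * #|U| / (a ^ 2 * #|der U|) ≤ ((coreS M (H0 ⊔ der U)).filter fun ζ => IsIrr M ζ ∧ ζ 1 = (#|W1| * a : ℕ)).card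
-- 9.9 (a), (c) 
theorem typeP_Galois_characters (hM : IsCoatom M) (h : OfTypeP M U W1 W2) (h5 : FTtype M ≠ 5) (h0 : FcoreKer M U H0) (hp : H0.relIndex W2 = p) (hG : TypePGalois M U H0) : (∀ χ ∈ irrKerD (der M) (Fcore M) H0, ∃ n : ℕ, χ 1 = ((Ckern M U H0).relIndex U * n : ℕ)) ∧ (∀ χ ∈ irrKerD (der M) (Fcore M) (H0 ⊔ der (Ckern M U H0)), χ 1 = ((Ckern M U H0).relIndex U : ℕ) ∧ ∃ ξ, IsLin (Fcore M ⊔ Ckern M U H0) ξ ∧ χ = ind (der M) (Fcore M ⊔ Ckern M U H0) ξ) ∧ ((∀ ζ ∈ coreS M (H0 ⊔ der (Ckern M U H0)), ¬ IsIrr M ζ) → Ckern M U H0 = ⊥ ∧ (Ckern M U H0).relIndex U = (p ^ #|W1| - 1) / (p - 1))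
-- 9.8 (b), 9.9 (b) 
theorem typeP_reducible_core_Ind (hM : IsCoatom M) (h : OfTypeP M U W1 W2) (h5 : FTtype M ≠ 5) (h0 : FcoreKer M U H0) (hp : H0.relIndex W2 = p) : {ζ | ζ ∈ coreS M H0 ∧ ¬ IsIrr M ζ}.ncard = p - 1 ∧ ∀ ζ ∈ coreS M H0, ¬ IsIrr M ζ → IsIndHC M U W1 H0 ζ ∧ ∃ j, IsIrr W2 j ∧ j ≠ cf1 W2 ∧ ζ = primeTIred M W1 W2 j
-- special case: `W₂` of prime order 
theorem typeP_prTIred_IndHC (hM : IsCoatom M) (h : OfTypeP M U W1 W2) (h5 : FTtype M ≠ 5) (h0 : FcoreKer M U H0) (hp : (#|W2|).Prime) {j : G → ℂ} (hj : IsIrr W2 j) (hj1 : j ≠ cf1 W2) : IsIndHC M U W1 H0 (primeTIred M W1 W2 j)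
-- 9.10 
theorem typeP_reducible_core_cases (hM : IsCoatom M) (h : OfTypeP M U W1 W2) (h5 : FTtype M ≠ 5) (h0 : FcoreKer M U H0) (hp : H0.relIndex W2 = p) : (∃ ζ, IsIrr M ζ ∧ ζ ∈ coreS M (H0 ⊔ der (Ckern M U H0)) ∧ ζ 1 = (#|W1| * (Ckern M U H0).relIndex U : ℕ) ∧ ∃ ξ, IsLin (Fcore M ⊔ Ckern M U H0) ξ ∧ ζ = ind M (Fcore M ⊔ Ckern M U H0) ξ) ∨ (TypePGalois M U H0 ∧ Ckern M U H0 = ⊥ ∧ IsCyclic U ∧ #|U| = (p ^ #|W1| - 1) / (p - 1) ∧ (FTtype M = 2 → IsFrob (Fcore M) U (der M)))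
-- 9.11 
theorem Ptype_core_coherence (hM : IsCoatom M) (h : OfTypeP M U W1 W2) (h5 : FTtype M ≠ 5) (h0 : FcoreKer M U H0) : Coherent M ⊤ (coreS M (H0 ⊔ der (Ckern M U H0))) (sharp (M : Set G)) (FTdade M)
-/
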