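import Cfsg.Agent.FT.DP08
import Cfsg.Agent.FT.PP10a
import Cfsg.Agent.FT.PP10b
import Cfsg.Agent.FT.PP10c

/- LINKED interface; the statements, proved in the imported files:

variable {G : Type u} [Group G] [Finite G] [MinCE G] {M U W1 W2 S T : Subgroup G}
-- 10.2 
theorem FTtypeP_ref_irr (h : OfTypeP M U W1 W2) : (∃ ζ ∈ seqIndD (der M) M (der M) (der (der M)), ζ 1 = (#|W1| : ℕ)) ∧ ∀ ζ ∈ seqIndD (der M) M (der M) (der (der M)), IsIrr M ζ ∧ ζ 1 = (#|W1| : ℕ)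
-- 10.3 
theorem FTtype345_core_prime (hM : IsCoatom M) (h : OfTypeP M U W1 W2) (h2 : FTtype M ≠ 2) : (#|W2|).Prime
-- 10.3 
theorem FTtype345_constants (hM : IsCoatom M) (h : OfTypeP M U W1 W2) (h2 : FTtype M ≠ 2) : ∃ (d n : ℕ) (δ : ℤ), (∀ i j, IsIrr W1 i → IsIrr W2 j → j ≠ cf1 W2 → primeTIirr M W1 W2 i j 1 = d) ∧ (∀ j, IsIrr W2 j → j ≠ cf1 W2 → primeTIsign M W1 W2 j = δ) ∧ 1 < d ∧ (d : ℤ) = δ + n * (#|W1| : ℕ)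
-- 10.5, first part 
theorem supp_FTtype345_bridge (hM : IsCoatom M) (h : OfTypeP M U W1 W2) (h2 : FTtype M ≠ 2) {ζ i j : G → ℂ} {n : ℕ} (hζ : ζ ∈ seqIndD (der M) M (der M) ⊥) (hζi : IsIrr M ζ) (hζ1 : ζ 1 = (#|W1| : ℕ)) (hi : IsIrr W1 i) (hj : IsIrr W2 j) (hj1 : j ≠ cf1 W2) (hn : primeTIirr M W1 W2 i j 1 = primeTIsign M W1 W2 j + n * (#|W1| : ℕ)) {α : G → ℂ} (hα : α = primeTIirr M W1 W2 i j - primeTIsign M W1 W2 j • primeTIirr M W1 W2 i (cf1 W2) - n • ζ) : IsCFOn M (FTsupp0 M) α ∧ α ∈ virt M ∧ FTdade M α ∈ virt ⊤ ∧ ⟪FTdade M α, FTdade M α⟫_⊤ = 2 + (n : ℂ) ^ 2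
theorem FTtype345_bridge_coherence (hM : IsCoatom M) (h : OfTypeP M U W1 W2) (h2 : FTtype M ≠ 2) {ζ i j : G → ℂ} {n : ℕ} (hζ : ζ ∈ seqIndD (der M) M (der M) ⊥) (hζi : IsIrr M ζ) (hζ1 : ζ 1 = (#|W1| : ℕ)) (hi : IsIrr W1 i) (hj : IsIrr W2 j) (hj1 : j ≠ cf1 W2) (hn : primeTIirr M W1 W2 i j 1 = primeTIsign M W1 W2 j + n * (#|W1| : ℕ)) {S1 : Set (G → ℂ)} {ν : (G → ℂ) →ₗ[ℂ] (G → ℂ)} (hS1 : S1 ⊆ seqIndD (der M) M (der M) ⊥) (hc : ConjClosed S1) (hirr : ∀ φ ∈ S1, IsIrr M φ) (hν : CoherentWith M ⊤ S1 (sharp (M : Set G)) (FTdade M) ν) {X Y : G → ℂ} (hXY : FTdade M (primeTIirr M W1 W2 i j - primeTIsign M W1 W2 j • primeTIirr M W1 W2 i (cf1 W2) - n • ζ) = X + Y) (hY : Y ∈ zspan (ν '' S1)) (hX : ∀ φ ∈ S1, ⟪X, ν φ⟫_⊤ = 0) (hYn : ⟪Y, Y⟫_⊤ = (n : ℂ) ^ 2) : X = primeTIsign M W1 W2 j • (eta ⊤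 W1 W2 i j - eta ⊤ W1 W2 i (cf1 W2))
-- 10.8 
theorem FTtype345_noncoherence (hM : IsCoatom M) (h : OfTypeP M U W1 W2) (h2 : FTtype M ≠ 2) : ¬ Coherent M ⊤ (seqIndD (der M) M (der M) ⊥) (sharp (M : Set G)) (FTdade M)
-- 10.9 
theorem FTtype345_Dade_bridge0 (hM : IsCoatom M) (h : OfTypeP M U W1 W2) (h2 : FTtype M ≠ 2) (hlt : #|W1| < #|W2|) {ζ : G → ℂ} (hζ : ζ ∈ seqIndD (der M) M (der M) ⊥) (hζi : IsIrr M ζ) (hζ1 : ζ 1 = (#|W1| : ℕ)) : ∃ χ, FTdade M (primeTIred M W1 W2 (cf1 W2) - ζ) = ∑ i ∈ irr W1, eta ⊤ W1 W2 i (cf1 W2) - χ ∧ IsDirr ⊤ χ ∧ ∀ i j, IsIrr W1 i → IsIrr W2 j → ⟪χ, eta ⊤ W1 W2 i j⟫_⊤ = 0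
-- 10.10 
theorem FTtype5_exclusion (hM : IsCoatom M) : FTtype M ≠ 5
-- 10.11 
theorem FTtypeP_primes (hM : IsCoatom M) (h : OfTypeP M U W1 W2) : (#|W1|).Prime ∧ (#|W2|).Prime
-- 10.11 
theorem FTtypeII_prime_facts (hM : IsCoatom M) (h : OfTypeP M U W1 W2) (h2 : FTtype M = 2) : IsElementaryAbelian #|W2| (Fcore M) ∧ #|Fcore M| = #|W2| ^ #|W1| ∧ FcoreKer M U ⊥ ∧ Coherent M ⊤ (coreS M ⊥) (sharp (M : Set G)) (FTdade M)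
-/
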