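import Cfsg.Agent.FT.DP08
import Cfsg.Agent.FT.PP11a
import Cfsg.Agent.FT.PP11b
import Cfsg.Agent.FT.PP11x
import Cfsg.Agent.FT.PP11c

/- LINKED interface; the statements, proved in the imported files:

variable {G : Type u} [Group G] [Finite G] [MinCE G] {M U W1 W2 H0 : Subgroup G}
theorem Ptype_Fcompl_kernel_cent (hM : IsCoatom M) (h : OfTypeP M U W1 W2) (h2 : FTtype M ≠ 2) (h0 : FcoreKer M U H0) : Ckern M U H0 = U ⊓ 𝐂(Fcore M)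
-- 11.3 
theorem FTtype34_noncoherence (hM : IsCoatom M) (h : OfTypeP M U W1 W2) (h2 : FTtype M ≠ 2) (h0 : FcoreKer M U H0) : ¬ Coherent M ⊤ (seqIndD (der M) M (der M) (H0 ⊔ (U ⊓ 𝐂(Fcore M)))) (sharp (M : Set G)) (FTdade M)
-- 11.5 
theorem FTtype34_der2 (hM : IsCoatom M) (h : OfTypeP M U W1 W2) (h2 : FTtype M ≠ 2) : der (der M) = Fcore M ⊔ (U ⊓ 𝐂(Fcore M))
-- 11.6, 11.7 
theorem FTtype34_Fcore_kernel_trivial (hM : IsCoatom M) (h : OfTypeP M U W1 W2) (h2 : FTtype M ≠ 2) : IsElementaryAbelian #|W2| (Fcore M) ∧ #|Fcore M| = #|W2| ^ #|W1| ∧ FcoreKer M U ⊥ ∧ U ⊓ 𝐂(Fcore M) = der U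
-- 11.8 
theorem FTtype34_not_ortho_cycTIiso (hM : IsCoatom M) (h : OfTypeP M U W1 W2) (h2 : FTtype M ≠ 2) {ζ : G → ℂ} (hζ : ζ ∈ seqIndD (der M) M (der M) (der (der M))) : ¬ ∀ i j, IsIrr W1 i → IsIrr W2 j → ⟪FTdade M (primeTIred M W1 W2 (cf1 W2) - ζ) - ∑ k ∈ irr W1, eta ⊤ W1 W2 k (cf1 W2), eta ⊤ W1 W2 i j⟫_⊤ = 0
-- 11.9 
theorem FTtype34_structure (hM : IsCoatom M) (h : OfTypeP M U W1 W2) (h2 : FTtype M ≠ 2) : (∀ ζ ∈ seqIndD (der M) M (der M) (der (der M)), ∀ i j, IsIrr W1 i → IsIrr W2 j → ⟪FTdade M (primeTIred M W1 W2 (cf1 W2) - ζ) - ∑ k ∈ irr W2, eta ⊤ W1 W2 (cf1 W1) k, eta ⊤ W1 W2 i j⟫_⊤ = 0) ∧ #|W2| < #|W1| ∧ FTtype M = 3 ∧ TypePGalois M U ⊥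
-/
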