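import Cfsg.Agent.FT.DP08
import Cfsg.Agent.FT.PP12a
import Cfsg.Agent.FT.PP12b
import Cfsg.Agent.FT.PP12c

/- LINKED interface; the statements, proved in the imported files:

variable {G : Type u} [Group G] [Finite G] [MinCE G] {L E : Subgroup G}
theorem FTtype1_ref_irr (hL : IsCoatom L) : ∃ φ ∈ seqIndD (Fcore L) L (Fcore L) ⊥, φ 1 = ((Fcore L).relIndex L : ℕ)
theorem FT_Frobenius_type1 (hL : IsCoatom L) (h : IsFrob (Fcore L) E L) : FTtype L = 1
theorem FTsupp_Frobenius (hL : IsCoatom L) (h : IsFrob (Fcore L) E L) : FTsupp0 L = sharp (Fcore L : Set G) ∧ FTsupp L = sharp (Fcore L : Set G) ∧ FTsupp1 L = sharp (Fcore L : Set G)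
-- 12.6 
theorem FT_Frobenius_coherence (hL : IsCoatom L) (h : IsFrob (Fcore L) E L) : (∀ φ ∈ seqIndD (Fcore L) L (Fcore L) ⊥, IsIrr L φ) ∧ Coherent L ⊤ (seqIndD (Fcore L) L (Fcore L) ⊥) (sharp (L : Set G)) (dade ⊤ (sharp (Fcore L : Set G)) (FTsigR L))
-- 12.7 
theorem FTtype1_Frobenius (hL : IsCoatom L) (h : FTtype L = 1) : ∃ E, IsFrob (Fcore L) E L
-- 12.17 
theorem not_all_FTtype1 (G : Type u) [Group G] [Finite G] [MinCE G] : ¬ ∀ M : Subgroup G, IsCoatom M → FTtype M = 1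
-/
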