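import Cfsg.Agent.FT.DP08
import Cfsg.Agent.FT.PP13aa
import Cfsg.Agent.FT.PP13ab

/- LINKED interface; the statements, proved in the imported files:

variable {G : Type u} [Group G] [Finite G] [MinCE G] {S U W1 W2 : Subgroup G} {ν : (G → ℂ) →ₗ[ℂ] (G → ℂ)}
-- 13.2 
theorem FTtypeP_facts (hS : IsCoatom S) (h : OfTypeP S U W1 W2) : ((FTtype S = 2 ∨ FTtype S = 3) ∧ (#|W1| < #|W2| → FTtype S = 2) ∧ IsFrob U W1 (U ⊔ W1) ∧ IsMulCommutative U) ∧ (IsElementaryAbelian #|W2| (Fcore S) ∧ #|Fcore S| = #|W2| ^ #|W1| ∧ FcoreKer S U ⊥ ∧ Ckern S U ⊥ = U ⊓ 𝐂(Fcore S)) ∧ (U ⊓ 𝐂(Fcore S)).relIndex U ≤ (#|W2| ^ #|W1| - 1) / (#|W2| - 1) ∧ Coherent S ⊤ (coreS S ⊥) (sharp (S : Set G)) (FTdade S) ∧ NormedTI (FTsupp0 S) ⊤ S ∧ ∀ α, IsCFOn S (FTsupp0 S) α → FTdade S α = ind ⊤ S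 α
theorem FTtypeP_Fitting (hS : IsCoatom S) (h : OfTypeP S U W1 W2) : IsMulCommutative (Fit S) ∧ Fit S = Fcore S ⊔ (U ⊓ 𝐂(Fcore S)) ∧ (Fit S).relIndex S = (U ⊓ 𝐂(Fcore S)).relIndex U * #|W1| ∧ NormedTI (sharp (Fit S : Set G)) ⊤ S
theorem FTseqInd_TIred (hS : IsCoatom S) (h : OfTypeP S U W1 W2) {j : G → ℂ} (hj : IsIrr W2 j) (hj1 : j ≠ cf1 W2) : primeTIred S W1 W2 j ∈ coreS S ⊥
-- 13.3 (a) 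
theorem FTprTIred_Ind_Fitting (hS : IsCoatom S) (h : OfTypeP S U W1 W2) {j : G → ℂ} (hj : IsIrr W2 j) (hj1 : j ≠ cf1 W2) : primeTIred S W1 W2 j ∈ seqIndT (Fit S) S ∧ ∀ i, IsIrr W1 i → primeTIirr S W1 W2 i j 1 = ((U ⊓ 𝐂(Fcore S)).relIndex U : ℕ)
-- 13.3 (c) 
theorem FTprTIsign (hS : IsCoatom S) (h : OfTypeP S U W1 W2) {j : G → ℂ} (hj : IsIrr W2 j) : primeTIsign S W1 W2 j = 1
-- 13.3 (b) 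
theorem FTtypeP_no_Ind_Fitting_facts (hS : IsCoatom S) (h : OfTypeP S U W1 W2) (hn : ∀ φ ∈ coreS S ⊥, IsIrr S φ → φ ∉ seqIndT (Fit S) S) : TypePGalois S U ⊥ ∧ U ⊓ 𝐂(Fcore S) = ⊥ ∧ #|U| = (#|W2| ^ #|W1| - 1) / (#|W2| - 1)
-- 13.3 (c) 
theorem FTtypeP_coherence (hS : IsCoatom S) (h : OfTypeP S U W1 W2) : ∃ ν, CoherentWith S ⊤ (coreS S ⊥) (sharp (S : Set G)) (FTdade S) ν ∧ ((∀ j, IsIrr W2 j → j ≠ cf1 W2 → ν (primeTIred S W1 W2 j) = ∑ i ∈ irr W1, eta ⊤ W1 W2 i j) ∨ (#|W2| = 3 ∧ ∀ j, IsIrr W2 j → j ≠ cf1 W2 → ν (primeTIred S W1 W2 j) = -∑ i ∈ irr W1, eta ⊤ W1 W2 i (star j)))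
-- 13.6 
theorem FTtypeP_sum_Ind_Fitting_lb (hS : IsCoatom S) (h : OfTypeP S U W1 W2) (hν : CoherentWith S ⊤ (coreS S ⊥) (sharp (S : Set G)) (FTdade S) ν) {l : G → ℂ} (hl : l ∈ coreS S ⊥) (hi : IsIrr S l) (hH : l ∈ seqIndT (Fit S) S) : ((#|S| : ℕ) : ℝ) - (((Fit S).relIndex S : ℕ) : ℝ) ^ 2 ≤ ∑ᶠ x ∈ sharp (Fit S : Set G), ‖ν l x‖ ^ 2
-- 13.7 
theorem FTtypeP_sum_cycTIiso10_lb (hS : IsCoatom S) (h : OfTypeP S U W1 W2) {i : G → ℂ} (hi : IsIrr W1 i) (hi1 : i ≠ cf1 W1) : ((#|Fit S| : ℕ) : ℝ) - 1 ≤ ∑ᶠ x ∈ sharp (Fit S : Set G), ‖eta ⊤ W1 W2 i (cf1 W2) x‖ ^ 2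
-- 13.8 
theorem FTtypeP_sum_cycTIiso01_lb (hS : IsCoatom S) (h : OfTypeP S U W1 W2) {j : G → ℂ} (hj : IsIrr W2 j) (hj1 : j ≠ cf1 W2) : ((#|der S| : ℕ) : ℝ) - (((U ⊓ 𝐂(Fcore S)).relIndex U : ℕ) : ℝ) ^ 2 ≤ ∑ᶠ x ∈ sharp (Fit S : Set G), ‖eta ⊤ W1 W2 (cf1 W1) j x‖ ^ 2
-- 13.9 (b), for any subgroup `Q` 
theorem FTtypeP_sum_nonFitting_lb (hS : IsCoatom S) (h : OfTypeP S U W1 W2) (hν : CoherentWith S ⊤ (coreS S ⊥) (sharp (S : Set G)) (FTdade S) ν) {l : G → ℂ} (hl : l ∈ coreS S ⊥) (hi : IsIrr S l) (hH : l ∈ seqIndT (Fit S) S) {i : G → ℂ} (hi0 : IsIrr W1 i) (hi1 : i ≠ cf1 W1) (Q : Subgroup G) {G0 : Set G} (hG0 : G0 = sharp Set.univ \ (classSupport (sharp (Fit S : Set G)) ⊤ ∪ classSupport (sharp (Q : Set G)) ⊤)) : (G0.ncard : ℝ) ≤ ∑ᶠ x ∈ G0, (‖ν l x‖ ^ 2 + ‖eta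 ⊤ W1 W2 i (cf1 W2) x‖ ^ 2)
-/
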