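import Cfsg.Agent.FT.DP08
import Cfsg.Agent.FT.PP13m
import Cfsg.Agent.FT.PP13n
import Cfsg.Agent.FT.PP13o

/- LINKED interface; the statements, proved in the imported files:

variable {G : Type u} [Group G] [Finite G] [MinCE G] {S U W1 W2 : Subgroup G} {p q : ℕ}
-- 13.12 
theorem FTtypeP_reg_Fcore (hS : IsCoatom S) (h : OfTypeP S U W1 W2) : U ⊓ 𝐂(Fcore S) = ⊥ ∧ Fit S = Fcore S
-- 13.13 
theorem FTtypeP_nonGalois_facts (hS : IsCoatom S) (h : OfTypeP S U W1 W2) (hG : ¬ TypePGalois S U ⊥) : #|W1| = 3 ∧ #|U| = ((#|W2| - 1) / 2) ^ 2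
-- 13.14 
theorem FTtypeP_primes_mod_cases (hp : p.Prime) (hq : q.Prime) (hp2 : p ≠ 2) (hq2 : q ≠ 2) : Odd ((p ^ q - 1) / (p - 1)) ∧ (p ≡ 1 [MOD q] → q ∣ (p ^ q - 1) / (p - 1)) ∧ (¬ p ≡ 1 [MOD q] → p ≠ q → ((p ^ q - 1) / (p - 1)).Coprime (p - 1) ∧ ∀ b, b ∣ (p ^ q - 1) / (p - 1) → b ≡ 1 [MOD q])
-- 13.15 
theorem card_FTtypeP_Galois_compl (hS : IsCoatom S) (h : OfTypeP S U W1 W2) (hG : TypePGalois S U ⊥) (hp : p = #|W2|) (hq : q = #|W1|) : (p ≡ 1 [MOD q] → #|U| = (p ^ q - 1) / (p - 1) / q) ∧ (¬ p ≡ 1 [MOD q] → #|U| = (p ^ q - 1) / (p - 1))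
-- 13.16 
theorem FTtypeP_norm_cent_compl (hS : IsCoatom S) (h : OfTypeP S U W1 W2) : IsSdp (Fcore S) W1 𝐍(W2) ∧ 𝐂(W2) = 𝐍(W2)
-/
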