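import Cfsg.Agent.FT.DP08
import Cfsg.Agent.FT.PP13ca
import Cfsg.Agent.FT.PP13cb

/- LINKED interface; the statements, proved in the imported files:

variable {G : Type u} [Group G] [Finite G] [MinCE G] {S T L U W1 W2 : Subgroup G} {ν : (G → ℂ) →ₗ[ℂ] (G → ℂ)}
-- 13.17 
theorem FTtypeII_support_facts (h : OfTypeP S U W1 W2) (h2 : FTtype S = 2) (hST : TypePPair S T W1 W2) (hL : IsCoatom L) (hN : 𝐍(U) ≤ L) : (∃ E, IsFrob (Fcore L) E L) ∧ U ≤ Fcore L ∧ (IsSdp (Fcore L) W1 L ∨ ∃ y ∈ Fcore T, IsSdp (Fcore L) (W1 ⊔ cj y W2) L)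
-- 13.18 
theorem FTtypeP_bridge_facts (hS : IsCoatom S) (h : OfTypeP S U W1 W2) {β : (G → ℂ) → G → ℂ} (hβ : ∀ j, β j = ind S (Fcore S ⊔ W1) (cf1 (Fcore S ⊔ W1)) - primeTIirr S W1 W2 (cf1 W1) j) : #|W1| ∣ #|U| - 1 ∧ ∃ Γ0 : G → ℂ, (∀ j, IsIrr W2 j → j ≠ cf1 W2 → IsCFOn S (sharp (Fcore S : Set G) ∪ classSupport (cycTIset W1 W2) S) (β j) ∧ IsCFOn S (FTsupp0 S) (β j) ∧ ⟪β j, β j⟫_S = (((#|U| - 1) / #|W1| + 2 : ℕ) : ℂ) ∧ FTdade S (β j) - cf1 ⊤ + eta ⊤ W1 W2 (cf1 W1) j = Γ0) ∧ Γ0 ∈ virt ⊤ ∧ ⟪Γ0, cf1 ⊤⟫_⊤ = 0 ∧ star Γ0 = Γ0 ∧ ∀ X Y : G → ℂ, Γ0 = X + Y → ⟪X, Y⟫_⊤ = 0 → (∀ i j, IsIrr W1 i → IsIrr W2 j → ⟪Y, eta ⊤ W1 W2 i j⟫_⊤ = 0) → cfnorm ⊤ Y ≤ (((#|U| - 1) / #|W1| : ℕ) : ℝ)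
-- 13.19 (a), (b) 
theorem FTtypeI_bridge_ortho (hS : IsCoatom S) (h : OfTypeP S U W1 W2) (hL : IsCoatom L) (h1 : FTtype L = 1) (hν : CoherentWith L ⊤ (seqIndD (Fcore L) L (Fcore L) ⊥) (sharp (L : Set G)) (dade ⊤ (sharp (Fcore L : Set G)) (FTsigR L)) ν) : Disjoint (FTdadeSupp L (sharp (Fcore L : Set G))) (classSupport (Fcore S : Set G) ⊤ ∪ classSupport ((W1 ⊔ W2 : Subgroup G) : Set G) ⊤) ∧ ∀ φ ∈ seqIndD (Fcore L) L (Fcore L) ⊥, ∀ i j, IsIrr W1 i → IsIrr W2 j → ⟪ν φ, eta ⊤ W1 W2 i j⟫_⊤ = 0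
-- 13.19 (c) 
theorem FTtypeI_bridge_facts (hS : IsCoatom S) (h : OfTypeP S U W1 W2) (hL : IsCoatom L) (h1 : FTtype L = 1) (hν : CoherentWith L ⊤ (seqIndD (Fcore L) L (Fcore L) ⊥) (sharp (L : Set G)) (dade ⊤ (sharp (Fcore L : Set G)) (FTsigR L)) ν) {φ βL : G → ℂ} (hφ : φ ∈ seqIndD (Fcore L) L (Fcore L) ⊥) (hφ1 : φ 1 = ((Fcore L).relIndex L : ℕ)) (hβ : βL = dade ⊤ (sharp (Fcore L : Set G)) (FTsigR L) (ind L (Fcore L) (cf1 (Fcore L)) - φ)) {j : G → ℂ} (hj : IsIrr W2 j) (hj1 : j ≠ cf1 W2) : (∀ k, IsIrr W2 k → k ≠ cf1 W2 → ⟪βL, eta ⊤ W1 W2 (cf1 W1) k⟫_⊤ = ⟪βL, eta ⊤ W1 W2 (cf1 W1) j⟫_⊤) ∧ (((∃ n : ℤ, Odd n ∧ ⟪FTdade S (ind S (Fcore S ⊔ W1) (cf1 (Fcore S ⊔ W1)) - primeTIirr S W1 W2 (cf1 W1) j), ν φ⟫_⊤ = n) ∧ (((#|Fcore L| : ℕ) : ℝ) -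 1) / ((Fcore L).relIndex L : ℕ) ≤ (((#|U| - 1) / #|W1| : ℕ) : ℝ)) ∨ ((∃ n : ℤ, Odd n ∧ ⟪βL, eta ⊤ W1 W2 (cf1 W1) j⟫_⊤ = n) ∧ #|W2| ≤ (Fcore L).relIndex L))
-/
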