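import Cfsg.Agent.FT.Basic2
import Cfsg.Agent.FT.PP14a
import Cfsg.Agent.FT.PP14b
import Cfsg.Agent.FT.PP14c
import Cfsg.Agent.FT.PP14d

/- LINKED interface; the statements, proved in the imported files:

variable {G : Type u} [Group G] [Finite G] [MinCE G]
theorem no_minSimple_odd_group (G : Type u) [Group G] [Finite G] [MinCE G] : False
-/
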