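import Cfsg.Agent.FT.I01
import Cfsg.Agent.FT.P04a
import Cfsg.Agent.FT.P04b
import Cfsg.Agent.FT.P04c

/- LINKED interface; the statements, proved in the imported files:

variable {G : Type u} [Group G] [Finite G]
-- 4.3 (a) 
theorem exponent_odd_nil2 {p : ℕ} [Fact p.Prime] {R : Subgroup G} (ho : Odd #|R|) (hR : IsPGroup p R) (h : ⁅der R, R⁆ = ⊥) : ∀ x ∈ omegaOne p R, x ^ p = 1
-- 4.4 (a): a normal abelian subgroup of a `p`-group lies in an SCN-subgroup 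
theorem exists_SCN_ge {p : ℕ} [Fact p.Prime] {R A : Subgroup G} (hR : IsPGroup p R) (hA : A ⊴ R) (hab : IsMulCommutative A) : ∃ B, SCN R B ∧ A ≤ B
theorem SCN_abelian {R A : Subgroup G} (h : SCN R A) : IsMulCommutative A
-- 4.4 (b) 
theorem SCN_Sylow_cent_dprod {p : ℕ} [Fact p.Prime] {H R A : Subgroup G} (hR : IsSylowIn p R H) (hA : SCN R A) : IsSylowIn p A (H ⊓ 𝐂(A)) ∧ IsDp A (Opp p (H ⊓ 𝐂(A))) (H ⊓ 𝐂(A))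
-- 4.5 
theorem odd_pgroup_rank1_cyclic {p : ℕ} [Fact p.Prime] {R : Subgroup G} (hR : IsPGroup p R) (ho : Odd #|R|) : IsCyclic R ↔ prank p R ≤ 1
theorem abelian_pgroup_rank1_cyclic {p : ℕ} [Fact p.Prime] {R : Subgroup G} (hR : IsPGroup p R) (hab : IsMulCommutative R) : IsCyclic R ↔ prank p R ≤ 1
theorem abelian_rank1_cyclic {R : Subgroup G} (hab : IsMulCommutative R) : IsCyclic R ↔ rank R ≤ 1
theorem odd_rank1_Zgroup {H : Subgroup G} (ho : Odd #|H|) : IsZGroup H ↔ rank H ≤ 1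
theorem odd_nil_rank1_cyclic {H : Subgroup G} (ho : Odd #|H|) (hn : Group.IsNilpotent H) : IsCyclic H ↔ rank H ≤ 1
-- 4.5 (a) 
theorem ex_odd_normal_p2Elem {p : ℕ} [Fact p.Prime] {R : Subgroup G} (hR : IsPGroup p R) (ho : Odd #|R|) (hc : ¬ IsCyclic R) : ∃ S, PElem p 2 R S ∧ R ≤ 𝐍(S)
-- 4.5 (b) 
theorem Ohm1_extremal_odd {p : ℕ} [Fact p.Prime] {R : Subgroup G} {x : G} (hR : IsPGroup p R) (ho : Odd #|R|) (hc : ¬ IsCyclic R) (hx : x ∈ R) (hi : (zpowers x).relIndex R = p) : PElem p 2 R (omegaOne p R)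
-- 4.5 (c) 
theorem Ohm1_odd_ucn2 {p : ℕ} [Fact p.Prime] {R : Subgroup G} (hR : IsPGroup p R) (ho : Odd #|R|) (hc : ¬ IsCyclic R) : ¬ IsCyclic (omegaOne p (Zen2 R)) ∧ ∀ x ∈ omegaOne p (Zen2 R), x ^ p = 1
-- 4.6 
theorem odd_normal_p2Elem_exists {p : ℕ} [Fact p.Prime] {R S : Subgroup G} (hR : IsPGroup p R) (ho : Odd #|R|) (hS : S ⊴ R) (hc : ¬ IsCyclic S) : ∃ T, PElem p 2 S T ∧ R ≤ 𝐍(T)
-- 4.7 
theorem rank2_SCN3_empty {p : ℕ} [Fact p.Prime] {R : Subgroup G} (hR : IsPGroup p R) (ho : Odd #|R|) : rank R ≤ 2 ↔ ∀ A, SCN R A → rank A ≤ 2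
-- 4.8 (a) 
theorem rank2_exponent_p_p3group {p : ℕ} [Fact p.Prime] {R : Subgroup G} (hr : prank p R ≤ 2) (he : ∀ x ∈ R, x ^ p = 1) : #|R| ≤ p ^ 3
-- 4.8 (b) 
theorem exponent_Ohm1_rank2 {p : ℕ} [Fact p.Prime] {R : Subgroup G} (hR : IsPGroup p R) (hr : prank p R ≤ 2) (h3 : 3 < p) : ∀ x ∈ omegaOne p R, x ^ p = 1
-- 4.9 
theorem quotient_p2_Ohm1 {p : ℕ} [Fact p.Prime] {R T : Subgroup G} (hR : IsPGroup p R) (h3 : 3 < p) (h : #|omegaOne p R| ≤ p ^ 2) (hT : T ⊴ R) : #|omegaOne p (R ⁒ T)| ≤ p ^ 2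
-- 4.10 
theorem Ohm1_metacyclic_p2Elem {p : ℕ} [Fact p.Prime] {R : Subgroup G} (hm : Metacyclic R) (hR : IsPGroup p R) (ho : Odd #|R|) (hc : ¬ IsCyclic R) : PElem p 2 R (omegaOne p R)
-- 4.11 
theorem p2_Ohm1_metacyclic {p : ℕ} [Fact p.Prime] {R : Subgroup G} (hR : IsPGroup p R) (h3 : 3 < p) (h : #|omegaOne p R| ≤ p ^ 2) : Metacyclic R
-- 4.12 
theorem coprime_metacyclic_cent_sdprod {p : ℕ} [Fact p.Prime] {R A : Subgroup G} (hR : IsPGroup p R) (ho : Odd #|R|) (hm : Metacyclic R) (hA : ¬ p ∣ #|A|) (hAR : A ≤ 𝐍(R)) : IsMulCommutative ↥⁅R, A⁆ ∧ IsSdp ⁅R, A⁆ (R ⊓ 𝐂(A)) R ∧ (¬ IsMulCommutative R → ¬ A ≤ 𝐂(R) → IsCyclic ↥⁅R, A⁆ ∧ IsCyclic ↥(R ⊓ 𝐂(A)) ∧ ⁅R, A⁆ ≠ ⊥ ∧ R ⊓ 𝐂(A) ≠ ⊥ ∧ der R ≤ ⁅R, A⁆)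
-- 4.13, 4.14 
theorem pi_Aut_rank2_pgroup {p q : ℕ} [Fact p.Prime] {R A : Subgroup G} (hR : IsPGroup p R) (ho : Odd #|R|) (hr : prank p R ≤ 2) (hA : A ≤ 𝐍(R)) (hq : q.Prime) (hqp : q ≠ p) (hd : q ∣ (𝐂(R)).relIndex A) : q ∣ p ^ 2 - 1 ∧ q < p ∧ (q ∣ (p + 1) / 2 ∨ q ∣ (p - 1) / 2)
-- 4.15 
theorem cprod_extraspecial {p : ℕ} [Fact p.Prime] {R S : Subgroup G} (hS : IsPGroup p S) (hSR : S ≤ R) (hna : ¬ IsMulCommutative S) (hZ : #|Zen S| = p) (hc : ⁅R, S⁆ ≤ Zen S) : IsCp S (R ⊓ 𝐂(S)) R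
-- 4.16 
theorem rank2_coprime_comm_cprod {p : ℕ} [Fact p.Prime] {R A : Subgroup G} (hR : IsPGroup p R) (ho : Odd #|R|) (hne : R ≠ ⊥) (hr : prank p R ≤ 2) (hc : ⁅R, A⁆ = R) (hA : ¬ p ∣ #|A|) (hoA : Odd #|A|) : 3 < p ∧ (IsMulCommutative R ∨ ∃ S C : Subgroup G, ¬ IsMulCommutative S ∧ #|S| = p ^ 3 ∧ (∀ x ∈ S, x ^ p = 1) ∧ IsCp S C R ∧ IsCyclic C ∧ omegaOne p C = der S)
-- 4.17 
theorem der1_Aut_rank2_pgroup {p : ℕ} [Fact p.Prime] {R A : Subgroup G} (hR : IsPGroup p R) (ho : Odd #|R|) (hr : prank p R ≤ 2) (hA : A ≤ 𝐍(R)) (hs : Group.IsSolvable A) (hoA : Odd #|A|) : IsPGroup p (der A ⁒ 𝐂(R))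
-- 4.17 for `p'`-subgroups 
theorem der1_p'sub_cent_rank2_pgroup {p : ℕ} [Fact p.Prime] {R A X : Subgroup G} (hR : IsPGroup p R) (ho : Odd #|R|) (hr : prank p R ≤ 2) (hA : A ≤ 𝐍(R)) (hs : Group.IsSolvable A) (hoA : Odd #|A|) (hX : X ≤ der A) (hp : ¬ p ∣ #|X|) : X ≤ 𝐂(R)
-- 4.18 (c), (e) 
theorem rank2_der1_complement {p : ℕ} [Fact p.Prime] {H : Subgroup G} (ho : Odd #|H|) (hs : Group.IsSolvable H) (hr : prank p H ≤ 2) : IsHallIn {p}ᶜ (Opp p (der H)) (der H) ∧ der H ≤ Oppp p H ∧ PLength1 p H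
-- 4.18 (a) 
theorem rank2_max_pdiv {p q : ℕ} [Fact p.Prime] {H : Subgroup G} (ho : Odd #|H|) (hs : Group.IsSolvable H) (hr : prank p H ≤ 2) (hq : q.Prime) (hd : q ∣ (Opp p H).relIndex H) : q ≤ p
-- 4.18 (b) 
theorem rank2_min_p_complement {p : ℕ} [Fact p.Prime] {H : Subgroup G} (ho : Odd #|H|) (hs : Group.IsSolvable H) (hr : prank p H ≤ 2) (hmin : ∀ q : ℕ, q.Prime → q ∣ #|H| → p ≤ q) : IsHallIn {p}ᶜ (Opp p H) H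
-- 4.19 
theorem rank2_cent_chief {p : ℕ} [Fact p.Prime] {H K U V : Subgroup G} (ho : Odd #|H|) (hs : Group.IsSolvable H) (hK : K ⊴ H) (hr : prank p K ≤ 2) (hc : ChiefFactor H V U) (hp : IsPGroup p (U ⁒ V)) (hU : U ≤ K) : ⁅U, der H⁆ ≤ V
-- 4.20 (a) 
theorem rank2_der1_sub_Fitting {H : Subgroup G} (ho : Odd #|H|) (hs : Group.IsSolvable H) (hr : rank (Fit H) ≤ 2) : der H ≤ Fit H
-- 4.20 (b) 
theorem rank2_char_Sylow_normal {p : ℕ} [Fact p.Prime] {H S T : Subgroup G} (ho : Odd #|H|) (hs : Group.IsSolvable H) (hr : rank (Fit H) ≤ 2) (hS : IsSylowIn p S H) (hT : H ⊓ 𝐍(S) ≤ 𝐍(T)) (hTS : T ≤ der S) : T ⊴ H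
-- 4.20 (c) 
theorem rank2_min_p'core_Hall {p : ℕ} [Fact p.Prime] {H : Subgroup G} (ho : Odd #|H|) (hs : Group.IsSolvable H) (hr : rank (Fit H) ≤ 2) (hmin : ∀ q : ℕ, q.Prime → q ∣ #|H| → p ≤ q) : IsHallIn {p}ᶜ (Opp p H) H
-- 4.20 (c) 
theorem rank2_ge_pcore_Hall {H : Subgroup G} (m : ℕ) (ho : Odd #|H|) (hs : Group.IsSolvable H) (hr : rank (Fit H) ≤ 2) : IsHallIn {q | m ≤ q} (Opi {q | m ≤ q} H) H
-- 4.20 (c) 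
theorem rank2_max_pcore_Sylow {p : ℕ} [Fact p.Prime] {H : Subgroup G} (ho : Odd #|H|) (hs : Group.IsSolvable H) (hr : rank (Fit H) ≤ 2) (hmax : ∀ q : ℕ, q.Prime → q ∣ #|H| → q ≤ p) : IsSylowIn p (Op p H) H
-/
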