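import Cfsg.Agent.FT.I04
import Cfsg.Agent.FT.P05a

/- LINKED interface; the statements, proved in the imported files:

variable {G : Type u} [Group G] [Finite G]
theorem narrow_cj {p : ℕ} {R : Subgroup G} (g : G) : Narrow p (cj g R) ↔ Narrow p R
theorem narrow_map {G' : Type u} [Group G'] [Finite G'] {p : ℕ} {R : Subgroup G} (f : G →* G') (hf : R ⊓ f.ker = ⊥) : Narrow p (R.map f) ↔ Narrow p R
theorem narrow_quo {p : ℕ} {R N : Subgroup G} (hR : R ≤ 𝐍(N)) (h : R ⊓ N = ⊥) : Narrow p (R ⁒ N) ↔ Narrow p R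
-- 5.1 (a) 
theorem rank3_SCN3 {p : ℕ} [Fact p.Prime] {R : Subgroup G} (hR : IsPGroup p R) (ho : Odd #|R|) (hr : 2 < prank p R) : ∃ B, SCN R B ∧ 3 ≤ rank B
-- 5.1 (b) 
theorem normal_p2Elem_SCN3 {p : ℕ} [Fact p.Prime] {R E : Subgroup G} (hR : IsPGroup p R) (ho : Odd #|R|) (hr : 2 < prank p R) (hE : PElem p 2 R E) (hn : R ≤ 𝐍(E)) : ∃ B, SCN R B ∧ 3 ≤ rank B ∧ E ≤ B
-- 5.2 
theorem Ohm1_ucn_p2maxElem {p : ℕ} [Fact p.Prime] {R E : Subgroup G} (hR : IsPGroup p R) (ho : Odd #|R|) (hr : 2 < prank p R) (hE : PElem p 2 R E) (hm : PMaxElem p R E) : ¬ E ≤ narrowT p R ∧ #|omegaOne p (Zen R)| = p ∧ PElem p 2 R (omegaOne p (Zen2 R)) ∧ (narrowT p R).relIndex R = p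
theorem norm_narrowT (p : ℕ) (R : Subgroup G) : 𝐍(R) ≤ 𝐍(narrowT p R)
-- 5.3 (d) 
theorem narrow_cent_dprod {p : ℕ} [Fact p.Prime] {R S : Subgroup G} (hR : IsPGroup p R) (ho : Odd #|R|) (hr : 2 < prank p R) (hS : #|S| = p) (hSR : S ≤ R) (h2 : prank p (R ⊓ 𝐂(S)) ≤ 2) : IsCyclic ↥(narrowT p R ⊓ 𝐂(S)) ∧ S ⊓ der R = ⊥ ∧ S ⊓ narrowT p R = ⊥ ∧ IsDp S (narrowT p R ⊓ 𝐂(S)) (R ⊓ 𝐂(S))
-- 5.4 
theorem narrow_centP {p : ℕ} [Fact p.Prime] {R : Subgroup G} (hR : IsPGroup p R) (ho : Odd #|R|) (hr : 2 < prank p R) : Narrow p R ↔ ∃ S : Subgroup G, #|S| = p ∧ S ≤ R ∧ prank p (R ⊓ 𝐂(S)) ≤ 2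
-- 5.3 (a) - (c) 
theorem narrow_structureP {p : ℕ} [Fact p.Prime] {R : Subgroup G} (hR : IsPGroup p R) (ho : Odd #|R|) (hr : 2 < prank p R) : Narrow p R ↔ ∃ S C : Subgroup G, S ≤ R ∧ C ≤ R ∧ #|S| = p ∧ IsCyclic C ∧ IsDp S C (R ⊓ 𝐂(S))
-- The group-theoretic content of 10.13 (`S` is meant to be a Sylow subgroup, the second alternative of `h` is 10.7 (b)). 
theorem p2maxElem_structure {p : ℕ} [Fact p.Prime] {S P A : Subgroup G} (hS : IsPGroup p S) (ho : Odd #|S|) (hPS : P ≤ S) (hA : PElem p 2 P A) (hm : PMaxElem p S A) (hna : ¬ IsMulCommutative P) (h : 2 < prank p S ∨ ∃ Q C : Subgroup G, ¬ IsMulCommutative Q ∧ #|Q| = p ^ 3 ∧ (∀ x ∈ Q, x ^ p = 1) ∧ IsCp Q C S ∧ IsCyclic C ∧ omegaOne p C = der Q) : PElem p 1 A (omegaOne p (Zen P)) ∧ (∃ Z : Subgroup G, IsCyclic Z ∧ omegaOne p (Zen P) ≤ Z ∧ ∀ A₀, PElem p 1 A A₀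 → A₀ ≠ omegaOne p (Zen P) → IsDp A₀ Z (P ⊓ 𝐂(A))) ∧ ∀ X Y, PElem p 1 A X → PElem p 1 A Y → X ≠ omegaOne p (Zen P) → Y ≠ omegaOne p (Zen P) → ∃ g ∈ P ⊓ 𝐍(A), cj g X = Y
-- 5.5 (a), (b) 
theorem Aut_narrow {p : ℕ} [Fact p.Prime] {R A : Subgroup G} (hR : IsPGroup p R) (ho : Odd #|R|) (hn : Narrow p R) (hA : A ≤ 𝐍(R)) (hs : Group.IsSolvable A) (hoA : Odd #|A|) : IsPGroup p (der A ⁒ 𝐂(R)) ∧ (2 < prank p R → ∀ x ∈ A, ¬ p ∣ orderOf x → x ^ (p - 1) ∈ 𝐂(R))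
-- 5.5 (a) for `p'`-subgroups 
theorem der1_p'sub_cent_narrow {p : ℕ} [Fact p.Prime] {R A X : Subgroup G} (hR : IsPGroup p R) (ho : Odd #|R|) (hn : Narrow p R) (hA : A ≤ 𝐍(R)) (hs : Group.IsSolvable A) (hoA : Odd #|A|) (hX : X ≤ der A) (hp : ¬ p ∣ #|X|) : X ≤ 𝐂(R)
-- 5.6 (a), (c) 
theorem narrow_der1_complement_max_pdiv {p : ℕ} [Fact p.Prime] {H S : Subgroup G} (ho : Odd #|H|) (hs : Group.IsSolvable H) (hS : IsSylowIn p S H) (hn : Narrow p S) (hl : 2 < prank p S → PLength1 p H) : IsHallIn {p}ᶜ (Opp p (der H)) (der H) ∧ ∀ q : ℕ, q.Prime → q ∣ (Opp p H).relIndex H → q ≤ p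
-/
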